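import Cfsg.Agent.Lib.ConjTypeCop.Basic

/-!
Groups with class sizes `1, m, mn`: the structure when some element of class size `m` has an abelian centraliser.
-/

set_option autoImplicit false

namespace CfsgLib.ConjTypeCop

open Subgroup CfsgLib.CopClass CfsgLib.ConjTypeNM
open scoped commutatorElement

universe u
variable {G : Type u} [Group G] [Finite G] {m n : ℕ}

/-- An element of class size `m` with abelian centraliser. -/
structure Ab (G : Type u) [Group G] (m n : ℕ) (y : G) : Prop where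
  h : TH G m n
  hy : cs y = m
  comm : ∀ v ∈ cz y, ∀ w ∈ cz y, Commute v w

namespace Ab

variable {y : G}

theorem eq_of_nc (A : Ab G m n y) {c : G} (hc : c ∈ cz y) (hcz : c ∉ center G) : cz c = cz y := by
  have hle : cz y ≤ cz c := fun v hv => mem_cz.mpr (A.comm v hv c hc).eq
  rcases A.h.of_dvd_m (g := c) (A.hy ▸ index_dvd_of_le hle) with h1 | h1
  · exact absurd (cs_one_iff.mp h1) hcz
  · exact (eq_of_le_of_index hle (by change cs y ≤ cs c; rw [A.hy, h1])).symm

theorem norm_of (A : Ab G m n y) {g c : G} (hc : c ∈ cz y) (hcz : c ∉ center G) (hgc : g * c * g⁻¹ ∈ cz y) :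
    g ∈ normalizer ((cz y : Subgroup G) : Set G) := by
  refine mem_normalizer_iff.mpr fun v => ?_
  have h1 : v ∈ cz c ↔ v ∈ cz y := by rw [A.eq_of_nc hc hcz]
  have h2 : g * v * g⁻¹ ∈ cz (g * c * g⁻¹) ↔ g * v * g⁻¹ ∈ cz y := by
    rw [A.eq_of_nc hgc (conj_not_center hcz g)]
  rw [cz_conj g c, show g⁻¹ * (g * v * g⁻¹) * g = v by group] at h2
  exact h1.symm.trans h2

/-- The `q`-part of the centraliser. -/
def qp (A : Ab G m n y) (q : ℕ) : Subgroup G where
  carrier := {x | x ∈ cz y ∧ PE q x}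
  one_mem' := ⟨one_mem _, PE.one q⟩
  mul_mem' ha hb := ⟨mul_mem ha.1 hb.1, ha.2.mul hb.2 (A.comm _ ha.1 _ hb.1)⟩
  inv_mem' ha := ⟨inv_mem ha.1, ha.2.inv⟩

omit [Finite G] in
theorem mem_qp (A : Ab G m n y) {q : ℕ} {x : G} : x ∈ A.qp q ↔ x ∈ cz y ∧ PE q x := Iff.rfl

omit [Finite G] in
theorem isPGroup_qp (A : Ab G m n y) (q : ℕ) : IsPGroup q (A.qp q) := by
  rintro ⟨x, hx, k, hk⟩
  exact ⟨k, Subtype.ext (by simpa using hk)⟩

theorem card_qp_coprime (A : Ab G m n y) {p q : ℕ} (hp : p.Prime) (hq : q.Prime) (hpq : p ≠ q) :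
    (Nat.card (A.qp q)).Coprime p := by
  haveI := Fact.mk hq
  obtain ⟨k, hk⟩ := IsPGroup.iff_card.mp (A.isPGroup_qp q)
  rw [hk]
  exact Nat.Coprime.pow_left k ((Nat.coprime_primes hq hp).mpr (Ne.symm hpq))

omit [Finite G] in
theorem qp_normalized (A : Ab G m n y) {q : ℕ} :
    normalizer ((cz y : Subgroup G) : Set G) ≤ normalizer ((A.qp q : Subgroup G) : Set G) := fun g hg => by
  refine mem_normalizer_iff.mpr fun v => ?_
  rw [mem_qp, mem_qp, ← mem_normalizer_iff.mp hg v]
  refine and_congr_right fun _ => ⟨fun h => h.conj g, fun h => ?_⟩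
  have := h.conj g⁻¹
  rwa [inv_inv, show g⁻¹ * (g * v * g⁻¹) * g = v by group] at this

theorem qp_not_center (A : Ab G m n y) {q : ℕ} (hq : q.Prime) (hqn : q ∣ n) : ¬ A.qp q ≤ center G := by
  intro hle
  obtain ⟨g, hg⟩ := A.h.exmn
  have h1 := vp_le_of_forall hq (L := center G) (K := cz y) fun u hu hpu => hle ⟨hu, hpu⟩
  have h2 := vp_mono (p := q) (center_le_centralizer ({g} : Set G))
  rw [Sz.vp_cs A.hy, Nat.factorization_eq_zero_of_not_dvd (A.h.not_dvd_m hq hqn)] at h1
  rw [show vp q (centralizer ({g} : Set G)) = (m * n).factorization q from Sz.vp_cs hg, A.h.fq_mn hq hqn] at h2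
  have := hq.factorization_pos_of_dvd (by have := A.h.hn; omega) hqn
  omega

theorem exists_q (A : Ab G m n y) : ∃ q : ℕ, q.Prime ∧ q ∣ n :=
  Nat.exists_prime_and_dvd (by have := A.h.hn; omega)

/-- For `p ∣ m`: the `p`-part of the index of `N(C(y))` is small. -/
theorem normalizer_bounds (A : Ab G m n y) {p : ℕ} (hp : p.Prime) (hpm : p ∣ m) :
    vp p (normalizer ((cz y : Subgroup G) : Set G)) ≤ 1 ∧
      vp p (normalizer ((cz y : Subgroup G) : Set G)) + 1 ≤ m.factorization p ∧
      (normalizer ((cz y : Subgroup G) : Set G) = ⊤ → m.factorization p = 1) := by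
  haveI := Fact.mk hp
  obtain ⟨q, hq, hqn⟩ := A.exists_q
  have hpq : p ≠ q := fun e => A.h.not_dvd_n hp hpm (e ▸ hqn)
  have ha : 0 < m.factorization p := hp.factorization_pos_of_dvd (by have := A.h.hm; omega) hpm
  set a := m.factorization p with hadef
  set NH := normalizer ((cz y : Subgroup G) : Set G) with hNH
  obtain ⟨P, hP⟩ := exists_sylow_inf (p := p) (cz y)
  set X := (P : Subgroup G) ⊓ cz y with hX
  have hvX : vp p X = a := le_antisymm (hP.trans_eq (Sz.vp_cs A.hy))
    ((Sz.vp_cs A.hy).symm.le.trans (vp_mono inf_le_right))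
  have hXz : ¬ X ≤ center G := fun h1 => by
    have h2 := vp_mono (p := p) h1
    have := A.h.vp_center_gt hp hpm
    omega
  have hXne : X ≠ (P : Subgroup G) := fun h1 => by rw [h1, vp_sylow] at hvX; omega
  set T := (P : Subgroup G) ⊓ normalizer (X : Set G) with hTdef
  have hXT : X < T := lt_norm P.isPGroup' inf_le_left hXne
  have hTp : IsPGroup p T := P.isPGroup'.to_le inf_le_left
  obtain ⟨x₁, hx₁, hx₁z, hx₁p, hc₁⟩ := exists_fixed_mod_center hTp hXT.le
    (fun g hg x hx => (mem_normalizer_iff.mp hg.2 x).mp hx) hXz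
  have hTN : T ≤ NH := fun g hg => A.norm_of hx₁.2 hx₁z ((mem_normalizer_iff.mp hg.2 x₁).mp hx₁).2
  have hNT : ∀ g ∈ (P : Subgroup G), g ∈ NH → g ∈ T := fun g hg hgN => by
    refine ⟨hg, mem_normalizer_iff.mpr fun v => ?_⟩
    rw [hX, mem_inf, mem_inf, ← mem_normalizer_iff.mp hgN v,
      ← mem_normalizer_iff.mp ((le_normalizer : (P : Subgroup G) ≤ _) hg) v]
  have hzx : cz x₁ = cz y := A.eq_of_nc hx₁.2 hx₁z
  have hTX : cz y ⊓ T = X := le_antisymm (le_inf (inf_le_right.trans inf_le_left) inf_le_left)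
    (le_inf inf_le_right hXT.le)
  have hrel : X.relIndex T = p := by
    have h1 : (cz x₁).relIndex T ∣ p := by
      refine relIndex_dvd_prime (V := A.qp q) hc₁ hx₁p (fun u hu w hw => A.comm u hu.1 w hw.1)
        (A.card_qp_coprime hp hq hpq) (A.qp_not_center hq hqn) (hTN.trans A.qp_normalized) ?_ ?_
      · intro g _ v hv hvz hgv
        have h2 : g ∈ cz v := mem_cz.mpr hgv.eq
        rw [A.eq_of_nc hv.1 hvz, ← hzx] at h2
        exact mem_cz.mp h2
      · intro g _ hgx v hv
        have h2 : g ∈ cz x₁ := mem_cz.mpr hgx.eq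
        rw [hzx] at h2
        exact A.comm g h2 v hv.1
    rw [hzx, ← inf_relIndex_right, hTX] at h1
    rcases hp.eq_one_or_self_of_dvd _ h1 with h2 | h2
    · exact absurd (relIndex_eq_one.mp h2) (not_le_of_gt hXT)
    · exact h2
  have hvT : vp p T + 1 = a := by
    have h1 := vp_add (p := p) hXT.le
    rw [hrel, hvX, hp.factorization_self] at h1
    omega
  have hNT' : vp p NH ≤ vp p T := vp_mono hTN
  by_cases hTP : T = (P : Subgroup G)
  · rw [hTP, vp_sylow] at hvT hNT'
    exact ⟨by omega, by omega, fun _ => by omega⟩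
  -- `T` proper
  suffices hb : vp p T ≤ 1 by
    refine ⟨hNT'.trans hb, by omega, fun htop => absurd ?_ hTP⟩
    exact le_antisymm inf_le_left fun g hg => hNT g hg (htop ▸ mem_top g)
  have hTlt := lt_norm P.isPGroup' (inf_le_left : T ≤ (P : Subgroup G)) hTP
  obtain ⟨k, hk, hkT⟩ := SetLike.exists_of_lt hTlt
  set X' := X.map (MulAut.conj k).toMonoidHom with hX'
  have hX'T : X' ≤ T := by
    rintro _ ⟨x, hx, rfl⟩
    exact (mem_normalizer_iff.mp hk.2 x).mp (hXT.le hx)
  have hXX' : X ⊓ X' ≤ center G := by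
    rintro c ⟨hc, x, hx, hxc⟩
    by_contra hcz
    change k * x * k⁻¹ = c at hxc
    subst hxc
    have hxz : x ∉ center G := fun h1 => hcz ((inferInstance : (center G).Normal).conj_mem x h1 k)
    exact hkT (hNT k hk.1 (A.norm_of hx.2 hxz hc.2))
  have hX'rel : X'.relIndex T = p := by
    have hidx : X'.index = X.index := Subgroup.index_map_of_bijective (MulAut.conj k).bijective X
    have h1 := relIndex_mul_index hX'T
    rw [hidx, ← relIndex_mul_index hXT.le, hrel] at h1
    exact Nat.eq_of_mul_eq_mul_right (Nat.pos_of_ne_zero index_ne_zero_of_finite) h1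
  set Zp := (P : Subgroup G) ⊓ center G with hZp
  have hZpX : Zp ≤ X := le_inf inf_le_left (inf_le_right.trans (center_le_centralizer _))
  have hZrel : Zp.relIndex X ≤ p := by
    calc Zp.relIndex X ≤ X'.relIndex X := by
          refine Nat.le_of_dvd (Nat.pos_of_ne_zero (index_ne_zero_of_finite (H := X'.subgroupOf X))) ?_
          rw [← inf_relIndex_right X' X]
          exact relIndex_dvd_of_le_left X (le_inf (inf_le_right.trans inf_le_left) ((inf_comm X' X).le.trans hXX'))
      _ ≤ X'.relIndex T := relIndex_le_of_le_right hXT.le (index_ne_zero_of_finite (H := X'.subgroupOf T))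
      _ = p := hX'rel
  have hvZ : vp p Zp = a + 1 := by
    have h1 : vp p (center G) ≤ vp p Zp := vp_mono inf_le_right
    have h2 := A.h.vp_center_gt hp hpm
    have h3 := relIndex_eq_pow (p := p) (P.isPGroup'.to_le inf_le_left) hZpX
    rw [hvX] at h3
    have h4 : vp p Zp - a ≤ 1 := by
      refine (Nat.pow_le_pow_iff_right hp.one_lt).mp ?_
      rw [← h3, pow_one]
      exact hZrel
    omega
  obtain ⟨u, huP, huz, hup, hcu⟩ := exists_fixed_mod_center P.isPGroup' le_rfl
    (fun g hg x hx => mul_mem (mul_mem hg hx) (inv_mem hg))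
    (fun h1 => hXz (inf_le_left.trans h1))
  have huT : u ∈ T := by
    refine ⟨huP, ?_⟩
    have key : ∀ x ∈ X, u * x * u⁻¹ ∈ X ∧ u⁻¹ * x * u ∈ X := by
      intro x hx
      refine ⟨⟨mul_mem (mul_mem huP hx.1) ((P : Subgroup G).inv_mem huP), ?_⟩, ⟨mul_mem (mul_mem ((P : Subgroup G).inv_mem huP) hx.1) huP, ?_⟩⟩
      · have hc := hcu x hx.1
        have e : u * x * u⁻¹ = (u⁻¹ * (x * u * x⁻¹))⁻¹ * x := by
          calc u * x * u⁻¹ = u * (u⁻¹ * (x * u * x⁻¹))⁻¹ * u⁻¹ * x := by group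
            _ = _ := by rw [mem_center_iff.mp (inv_mem hc) u, mul_inv_cancel_right]
        rw [e]
        exact mul_mem ((cz y).inv_mem (center_le_centralizer _ hc)) hx.2
      · have hc := hcu x hx.1
        have e : u⁻¹ * x * u = (u⁻¹ * (x * u * x⁻¹)) * x := by group
        rw [e]
        exact mul_mem (center_le_centralizer _ hc) hx.2
    refine mem_normalizer_iff.mpr fun v => ⟨fun hv => (key v hv).1, fun hv => ?_⟩
    have := (key _ hv).2
    rwa [show u⁻¹ * (u * v * u⁻¹) * u = v by group] at this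
  have huX : u ∉ X := fun hu => hTP (le_antisymm inf_le_left fun g hg => hNT g hg (A.norm_of hu.2 huz (by
    rw [show g * u * g⁻¹ = u * (u⁻¹ * (g * u * g⁻¹)) by group]
    exact mul_mem hu.2 (center_le_centralizer _ (hcu g hg)))))
  set S := (P : Subgroup G) ⊓ cz u with hS
  set W := zpowers u ⊔ Zp with hW
  have hWS : W ≤ S := sup_le (zpowers_le.mpr ⟨huP, mem_cz.mpr rfl⟩)
    (le_inf inf_le_left (inf_le_right.trans (center_le_centralizer _)))
  have hvW : vp p W ≤ a := by
    have h1 : vp p Zp = (Zp.relIndex W).factorization p + vp p W := vp_add le_sup_right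
    have h2 : 1 ≤ (Zp.relIndex W).factorization p := by
      rw [relIndex_eq_pow (P.isPGroup'.to_le (hWS.trans inf_le_left)) (le_sup_right : Zp ≤ W),
        hp.factorization_pow, Finsupp.single_eq_same]
      by_contra hlt
      push Not at hlt
      have h3 := relIndex_eq_pow (p := p) (P.isPGroup'.to_le (hWS.trans inf_le_left)) (le_sup_right : Zp ≤ W)
      rw [Nat.lt_one_iff.mp hlt, pow_zero] at h3
      exact huz (relIndex_eq_one.mp h3 (mem_sup_left (mem_zpowers u))).2
    omega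
  have hSW : S ≤ W := by
    have h1 := relIndex_eq_pow (p := p) (P.isPGroup'.to_le (inf_le_left : S ≤ (P : Subgroup G))) hWS
    have h2 : a ≤ vp p S := (A.h.vp_nc hp hpm huz).ge.trans (vp_mono inf_le_right)
    rw [show vp p W - vp p S = 0 by omega, pow_zero] at h1
    exact relIndex_eq_one.mp h1
  have hform : ∀ g ∈ (P : Subgroup G), ∃ i : ℤ, x₁⁻¹ * (g * x₁ * g⁻¹) * (u ^ i)⁻¹ ∈ Zp := by
    intro g hg
    have hs : x₁⁻¹ * (g * x₁ * g⁻¹) ∈ S := by
      refine ⟨mul_mem ((P : Subgroup G).inv_mem hx₁.1) (mul_mem (mul_mem hg hx₁.1) ((P : Subgroup G).inv_mem hg)), ?_⟩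
      have h1 : commHom (P : Subgroup G) u hcu (⟨x₁, hx₁.1⟩⁻¹ * (⟨g, hg⟩ * ⟨x₁, hx₁.1⟩ * ⟨g, hg⟩⁻¹)) = 1 := by
        simp only [map_mul, map_inv]
        generalize commHom (P : Subgroup G) u hcu ⟨x₁, hx₁.1⟩ = b
        generalize commHom (P : Subgroup G) u hcu ⟨g, hg⟩ = c
        have hbc : b * c = c * b := Subtype.ext (mem_center_iff.mp c.2 _)
        rw [← hbc]; group
      exact mem_cz.mpr ((commHom_eq_one _).mp h1).eq
    have h2 := hSW hs
    rw [hW] at h2
    haveI : (center G).Normal := inferInstance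
    have h3 : x₁⁻¹ * (g * x₁ * g⁻¹) ∈ zpowers u ⊔ center G := sup_le_sup (le_refl (zpowers u)) (inf_le_right : Zp ≤ center G) h2
    obtain ⟨w, hw, z, hz, e⟩ := mem_sup_of_normal_right.mp h3
    obtain ⟨i, rfl⟩ := mem_zpowers_iff.mp hw
    refine ⟨i, ?_⟩
    refine ⟨mul_mem (hs.1) ((P : Subgroup G).inv_mem (zpow_mem huP i)), ?_⟩
    rw [← e, mem_center_iff.mp hz (u ^ i), mul_inv_cancel_right]
    exact hz
  choose! idx hidx using hform
  let f : (P : Subgroup G) ⧸ T.subgroupOf (P : Subgroup G) → ZMod p := fun c => (idx (c.out : G) : ZMod p)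
  have hinj : Function.Injective f := by
    intro c d hcd
    rw [← QuotientGroup.out_eq' c, ← QuotientGroup.out_eq' d]
    set g₁ := (c.out : G) with hg₁
    set g₂ := (d.out : G) with hg₂
    refine QuotientGroup.eq.mpr (hNT _ (mul_mem (inv_mem c.out.2) d.out.2) ?_)
    refine A.norm_of hx₁.2 hx₁z ?_
    obtain ⟨l, hl⟩ := (ZMod.intCast_eq_intCast_iff_dvd_sub _ _ p).mp hcd
    have h1 := (hidx g₁ c.out.2).2
    have h2 := (hidx g₂ d.out.2).2
    have h3 : u ^ idx g₂ * (u ^ idx g₁)⁻¹ ∈ center G := by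
      rw [← zpow_neg, ← zpow_add, ← sub_eq_add_neg, hl, zpow_mul, zpow_natCast]
      exact zpow_mem hup l
    set z₁ := x₁⁻¹ * (g₁ * x₁ * g₁⁻¹) * (u ^ idx g₁)⁻¹ with hz₁
    set z₂ := x₁⁻¹ * (g₂ * x₁ * g₂⁻¹) * (u ^ idx g₂)⁻¹ with hz₂
    set w := u ^ idx g₂ * (u ^ idx g₁)⁻¹ with hwdef
    have e1 : g₂ * x₁ * g₂⁻¹ = g₁ * x₁ * g₁⁻¹ * (z₁⁻¹ * z₂ * w) := by
      have c1 := mem_center_iff.mp h1 (u ^ idx g₁)
      calc g₂ * x₁ * g₂⁻¹ = x₁ * z₂ * (u ^ idx g₂) := by rw [hz₂]; group
        _ = x₁ * (z₁ * (u ^ idx g₁)) * ((u ^ idx g₁)⁻¹ * (z₁⁻¹ * z₂ * w) * (u ^ idx g₁)) := by rw [hwdef]; group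
        _ = x₁ * (z₁ * (u ^ idx g₁)) * (z₁⁻¹ * z₂ * w) := by
          rw [mem_center_iff.mp (mul_mem (mul_mem (inv_mem h1) h2) h3) ((u ^ idx g₁)⁻¹)]; group
        _ = _ := by rw [hz₁]; group
    have e2 : g₁⁻¹ * g₂ * x₁ * (g₁⁻¹ * g₂)⁻¹ = x₁ * (z₁⁻¹ * z₂ * w) := by
      calc g₁⁻¹ * g₂ * x₁ * (g₁⁻¹ * g₂)⁻¹ = g₁⁻¹ * (g₂ * x₁ * g₂⁻¹) * g₁ := by group
        _ = x₁ * (g₁⁻¹ * (z₁⁻¹ * z₂ * w) * g₁) := by rw [e1]; group
        _ = _ := by rw [mem_center_iff.mp (mul_mem (mul_mem (inv_mem h1) h2) h3) g₁⁻¹]; group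
    show g₁⁻¹ * g₂ * x₁ * (g₁⁻¹ * g₂)⁻¹ ∈ cz y
    rw [e2]
    exact mul_mem hx₁.2 (center_le_centralizer _ (mul_mem (mul_mem (inv_mem h1) h2) h3))
  have hle : T.relIndex (P : Subgroup G) ≤ p := by
    show (T.subgroupOf (P : Subgroup G)).index ≤ p
    rw [Subgroup.index_eq_card]
    exact (Nat.card_le_card_of_injective f hinj).trans_eq (Nat.card_zmod p)
  rw [relIndex_eq_pow P.isPGroup' inf_le_left, vp_sylow, Nat.sub_zero] at hle
  exact (Nat.pow_le_pow_iff_right hp.one_lt).mp (hle.trans_eq (pow_one p).symm)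

/-- The `q`-part of the index of the centre. -/
theorem relIndex_qp (A : Ab G m n y) {q : ℕ} (hq : q.Prime) (hqn : q ∣ n) :
    (A.qp q ⊓ center G).relIndex (A.qp q) = q ^ ((center G).relIndex (cz y)).factorization q := by
  haveI := Fact.mk hq
  have hy0 : vp q (cz y) = 0 := by
    rw [Sz.vp_cs A.hy]; exact Nat.factorization_eq_zero_of_not_dvd (A.h.not_dvd_m hq hqn)
  have hV : vp q (A.qp q) = 0 :=
    Nat.le_zero.mp ((vp_le_of_forall hq (L := A.qp q) (K := cz y) fun u hu hpu => ⟨hu, hpu⟩).trans_eq hy0)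
  have hVZ : vp q (A.qp q ⊓ center G) = vp q (center G) :=
    le_antisymm (vp_le_of_forall hq fun u hu hpu => ⟨⟨center_le_centralizer _ hu, hpu⟩, hu⟩)
      (vp_mono inf_le_right)
  rw [relIndex_eq_pow (A.isPGroup_qp q) inf_le_left, hVZ, hV, Nat.sub_zero]
  have h1 := vp_add (p := q) (center_le_centralizer ({y} : Set G))
  rw [show vp q (centralizer ({y} : Set G)) = 0 from hy0, add_zero] at h1
  rw [h1]

/-- `w = [N(H) : H]` divides `Q - 1`. -/
theorem dvd_sub_one (A : Ab G m n y) {q : ℕ} (hq : q.Prime) (hqn : q ∣ n) :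
    (cz y).relIndex (normalizer ((cz y : Subgroup G) : Set G)) ∣
      (A.qp q ⊓ center G).relIndex (A.qp q) - 1 := by
  classical
  set NH := normalizer ((cz y : Subgroup G) : Set G) with hNH
  set V := A.qp q with hVdef
  let S : Set G := {v | v ∈ V ∧ v ∉ center G}
  letI act : MulAction NH S :=
    { smul := fun g v => ⟨(g : G) * v * (g : G)⁻¹,
        (mem_normalizer_iff.mp (A.qp_normalized g.2) _).mp v.2.1, conj_not_center v.2.2 g⟩
      one_smul := fun v => Subtype.ext (show (1 : G) * (v : G) * (1 : G)⁻¹ = v by group)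
      mul_smul := fun g k v => Subtype.ext (show (g : G) * k * (v : G) * ((g : G) * k)⁻¹ =
        (g : G) * ((k : G) * v * (k : G)⁻¹) * (g : G)⁻¹ by group) }
  have hst : ∀ v : S, MulAction.stabilizer NH v = (cz y).subgroupOf NH := fun v => by
    ext g
    rw [MulAction.mem_stabilizer_iff, mem_subgroupOf, ← A.eq_of_nc v.2.1.1 v.2.2, mem_cz_iff_conj]
    exact ⟨fun h => congrArg Subtype.val h, fun h => Subtype.ext h⟩
  have h1 := index_dvd_card hst
  change (cz y).relIndex NH ∣ Nat.card S at h1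
  have h2 : Nat.card S + Nat.card (V ⊓ center G : Subgroup G) = Nat.card V := by
    have e : S = (V : Set G) \ ((V ⊓ center G : Subgroup G) : Set G) := by
      ext v
      exact ⟨fun ⟨h, h'⟩ => ⟨h, fun h'' => h' h''.2⟩, fun ⟨h, h'⟩ => ⟨h, fun h'' => h' ⟨h, h''⟩⟩⟩
    rw [Nat.card_coe_set_eq, e, Set.ncard_sdiff (fun v hv => hv.1), ← Nat.card_coe_set_eq, ← Nat.card_coe_set_eq]
    exact Nat.sub_add_cancel (card_le_of_le inf_le_left)
  have h3 : Nat.card (V ⊓ center G : Subgroup G) * (V ⊓ center G).relIndex V = Nat.card V := by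
    have := card_mul_index ((V ⊓ center G).subgroupOf V)
    rwa [Nat.card_congr (subgroupOfEquivOfLe (inf_le_left : V ⊓ center G ≤ V)).toEquiv] at this
  have h4 : Nat.card S = Nat.card (V ⊓ center G : Subgroup G) * ((V ⊓ center G).relIndex V - 1) := by
    rw [Nat.mul_sub, mul_one, h3]; omega
  rw [h4] at h1
  refine Nat.Coprime.dvd_of_dvd_mul_left ?_ h1
  haveI := Fact.mk hq
  obtain ⟨e, he⟩ := IsPGroup.iff_card.mp ((A.isPGroup_qp q).to_le (inf_le_left : V ⊓ center G ≤ V))
  rw [he]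
  refine Nat.Coprime.pow_right e ((hq.coprime_iff_not_dvd).mpr fun hd => A.h.not_dvd_m hq hqn ?_).symm
  exact (hd.trans (Dvd.intro _ (relIndex_mul_index le_normalizer))).trans (dvd_of_eq A.hy)

/-- `Q` divides `[G : N(H)] - 1`. -/
theorem dvd_index_sub_one (A : Ab G m n y) {q : ℕ} (hq : q.Prime) (hqn : q ∣ n) :
    (A.qp q ⊓ center G).relIndex (A.qp q) ∣ (normalizer ((cz y : Subgroup G) : Set G)).index - 1 := by
  classical
  set NH := normalizer ((cz y : Subgroup G) : Set G) with hNH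
  set V := A.qp q with hVdef
  let S : Set (G ⧸ NH) := {c | c ≠ ((1 : G) : G ⧸ NH)}
  have hVN : V ≤ NH := fun v hv => le_normalizer hv.1
  have hfix : ∀ v : G, v ∈ NH → v • ((1 : G) : G ⧸ NH) = ((1 : G) : G ⧸ NH) := fun v hv => by
    change ((v * 1 : G) : G ⧸ NH) = _
    rw [mul_one]
    exact QuotientGroup.eq.mpr (by simpa using hv)
  letI act : MulAction V S :=
    { smul := fun v c => ⟨(v : G) • (c : G ⧸ NH), fun h0 => c.2 (by
        have := congrArg (fun d => (v : G)⁻¹ • d) h0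
        simp only [inv_smul_smul, hfix _ (inv_mem (hVN v.2))] at this
        exact this)⟩
      one_smul := fun c => Subtype.ext (one_smul G (c : G ⧸ NH))
      mul_smul := fun v w c => Subtype.ext (mul_smul (v : G) (w : G) (c : G ⧸ NH)) }
  have hst : ∀ c : S, MulAction.stabilizer V c = (V ⊓ center G).subgroupOf V := fun ⟨c, hc⟩ => by
    induction c using Quotient.inductionOn'
    rename_i g
    ext v
    rw [MulAction.mem_stabilizer_iff, mem_subgroupOf, mem_inf]
    constructor
    · intro h1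
      refine ⟨v.2, ?_⟩
      by_contra hvz
      have h2 : g⁻¹ * (v : G) * g ∈ NH := by
        have h3 : ((((v : G) * g : G)) : G ⧸ NH) = ((g : G) : G ⧸ NH) := congrArg Subtype.val h1
        have := inv_mem (QuotientGroup.eq.mp h3)
        simpa [mul_assoc] using this
      have hpe : PE q (g⁻¹ * (v : G) * g) := by simpa using v.2.2.conj g⁻¹
      have hd : ¬ q ∣ (cz y).relIndex NH := fun hd => A.h.not_dvd_m hq hqn
        ((hd.trans (Dvd.intro _ (relIndex_mul_index le_normalizer))).trans (dvd_of_eq A.hy))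
      obtain ⟨k, hk, hkv⟩ := conj_into hq hd h2 hpe
      have h4 : g⁻¹ * (v : G) * g ∈ cz y := (mem_normalizer_iff.mp hk _).mpr hkv
      have h5 : g ∈ NH := A.norm_of h4 (by simpa using conj_not_center hvz g⁻¹)
        (by rw [show g * (g⁻¹ * (v : G) * g) * g⁻¹ = v by group]; exact v.2.1)
      exact hc (QuotientGroup.eq.mpr (by simpa using inv_mem h5))
    · rintro ⟨-, hz⟩
      refine Subtype.ext ?_
      show (((v : G) * g : G) : G ⧸ NH) = ((g : G) : G ⧸ NH)
      rw [← mem_center_iff.mp hz g]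
      exact QuotientGroup.eq.mpr (by simpa using inv_mem (hVN v.2))
  have h1 := index_dvd_card hst
  change (V ⊓ center G).relIndex V ∣ Nat.card S at h1
  refine h1.trans (dvd_of_eq ?_)
  rw [Nat.card_coe_set_eq, show S = ({((1 : G) : G ⧸ NH)} : Set (G ⧸ NH))ᶜ from rfl, Set.ncard_compl,
    Set.ncard_singleton, index_eq_card]

/-- `C(y)` is normal. -/
theorem normal (A : Ab G m n y) : (cz y).Normal := by
  rw [← normalizer_eq_top_iff, ← index_eq_one]
  set NH := normalizer ((cz y : Subgroup G) : Set G) with hNH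
  obtain ⟨q, hq, hqn⟩ := A.exists_q
  set Q := (A.qp q ⊓ center G).relIndex (A.qp q) with hQ
  have hw0 : (cz y).relIndex NH ≠ 0 := index_ne_zero_of_finite (H := (cz y).subgroupOf NH)
  have hk0 : NH.index ≠ 0 := index_ne_zero_of_finite
  have hwk : (cz y).relIndex NH * NH.index = m := (relIndex_mul_index le_normalizer).trans A.hy
  have hkw : NH.index ∣ (cz y).relIndex NH := by
    rw [← Nat.factorization_le_iff_dvd hk0 hw0]
    intro p
    by_cases hp : p.Prime
    swap
    · rw [Nat.factorization_eq_zero_of_not_prime _ hp]; exact Nat.zero_le _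
    by_cases hpm : p ∣ m
    · obtain ⟨h1, h2, -⟩ := A.normalizer_bounds hp hpm
      have h3 : m.factorization p = ((cz y).relIndex NH).factorization p + vp p NH := by
        rw [← vp_add le_normalizer, Sz.vp_cs A.hy]
      change vp p NH ≤ _
      change vp p NH + 1 ≤ _ at h2
      change vp p NH ≤ 1 at h1
      omega
    · rw [Nat.factorization_eq_zero_of_not_dvd fun hd => hpm (hd.trans (Dvd.intro_left _ hwk))]
      exact Nat.zero_le _
  have hQ1 : 1 < Q := by
    rcases Nat.lt_or_ge 1 Q with h1 | h1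
    · exact h1
    · exfalso
      have h2 : Q = 1 := le_antisymm h1 (Nat.one_le_iff_ne_zero.mpr (index_ne_zero_of_finite (H := (A.qp q ⊓ center G).subgroupOf (A.qp q))))
      exact A.qp_not_center hq hqn fun v hv => (relIndex_eq_one.mp h2 hv).2
  have h1 := Nat.le_of_dvd (by omega) (A.dvd_sub_one hq hqn)
  have h2 := Nat.le_of_dvd (Nat.pos_of_ne_zero hw0) hkw
  by_contra hne
  have h30 : 0 < NH.index - 1 := by omega
  have h3 := Nat.le_of_dvd h30 (A.dvd_index_sub_one hq hqn)
  change (cz y).relIndex NH ≤ Q - 1 at h1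
  change Q ≤ NH.index - 1 at h3
  omega

theorem sqfree (A : Ab G m n y) {p : ℕ} (hp : p.Prime) (hpm : p ∣ m) : m.factorization p = 1 := by
  haveI := A.normal
  exact (A.normalizer_bounds hp hpm).2.2 (normalizer_eq_top_iff.mpr inferInstance)

theorem inf_cz_out (A : Ab G m n y) {g : G} (hg : g ∉ cz y) : cz g ⊓ cz y = center G := by
  refine le_antisymm (fun c hc => ?_) (le_inf (center_le_centralizer _) (center_le_centralizer _))
  by_contra hcz
  refine hg ?_
  rw [← A.eq_of_nc hc.2 hcz]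
  exact mem_cz.mpr (mem_cz.mp hc.1).symm

theorem hbar_fact (A : Ab G m n y) {p : ℕ} (hp : p.Prime) (hpm : p ∣ m) :
    1 ≤ ((center G).relIndex (cz y)).factorization p := by
  have h1 := vp_add (p := p) (center_le_centralizer ({y} : Set G))
  rw [show vp p (centralizer ({y} : Set G)) = m.factorization p from Sz.vp_cs A.hy] at h1
  have := A.h.vp_center_gt hp hpm
  change 1 ≤ ((center G).relIndex (centralizer ({y} : Set G))).factorization p
  omega

/-- Outside `C(y)` the class sizes are `mn`, and the centre has relative index `mn` in `C(y)`. -/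
theorem outside (A : Ab G m n y) {g : G} (hg : g ∉ cz y) :
    cs g = m * n ∧ (center G).relIndex (cz g) = m ∧ (center G).relIndex (cz y) = n * m := by
  haveI := A.normal
  have hgz : g ∉ center G := fun h => hg (center_le_centralizer _ h)
  set d := (center G).relIndex (cz g) with hd
  set hb := (center G).relIndex (cz y) with hhb
  have e1 : hb * m = d * cs g := by
    have h1 : hb * cs y = (center G).index := relIndex_mul_index (center_le_centralizer _)
    have h2 : d * cs g = (center G).index := relIndex_mul_index (center_le_centralizer _)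
    rw [A.hy] at h1
    rw [h1, h2]
  have hdm : d ∣ m := by
    have h1 : d = (cz y).relIndex (cz g) := by
      rw [hd, ← A.inf_cz_out hg, inf_comm, inf_relIndex_right]
    rw [h1]
    exact (relIndex_dvd_index_of_normal _ _).trans (dvd_of_eq A.hy)
  have hm0 : 0 < m := by have := A.h.hm; omega
  rcases A.h.of_nc hgz with h1 | h1
  · exfalso
    rw [h1] at e1
    have e2 : hb = d := Nat.eq_of_mul_eq_mul_right hm0 e1
    obtain ⟨q, hq, hqn⟩ := A.exists_q
    haveI := Fact.mk hq
    have h2 := A.relIndex_qp hq hqn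
    have h3 : hb.factorization q ≠ 0 := fun h0 => A.qp_not_center hq hqn fun v hv =>
      (relIndex_eq_one.mp (h2.trans (by rw [h0, pow_zero])) hv).2
    exact A.h.not_dvd_m hq hqn ((e2 ▸ Nat.dvd_of_factorization_pos h3).trans hdm)
  · refine ⟨h1, ?_⟩
    rw [h1] at e1
    have e2 : hb = n * d := Nat.eq_of_mul_eq_mul_right hm0 (by rw [e1]; ring)
    have hd0 : d ≠ 0 := fun h0 => by rw [h0, zero_dvd_iff] at hdm; omega
    have e3 : d = m := by
      refine Nat.dvd_antisymm hdm ((Nat.factorization_le_iff_dvd hm0.ne' hd0).mp fun p => ?_)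
      by_cases hp : p ∣ m ∧ p.Prime
      · have h4 := A.hbar_fact hp.2 hp.1
        change 1 ≤ hb.factorization p at h4
        rw [e2, Nat.factorization_mul (by have := A.h.hn; omega) hd0, Finsupp.add_apply,
          Nat.factorization_eq_zero_of_not_dvd (A.h.not_dvd_n hp.2 hp.1), zero_add] at h4
        rw [A.sqfree hp.2 hp.1]
        exact h4
      · rcases not_and_or.mp hp with h5 | h5
        · rw [Nat.factorization_eq_zero_of_not_dvd h5]; exact Nat.zero_le _
        · rw [Nat.factorization_eq_zero_of_not_prime _ h5]; exact Nat.zero_le _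
    exact ⟨e3, e3 ▸ e2⟩

theorem exists_pel_out (A : Ab G m n y) {p : ℕ} (hp : p.Prime) (hpm : p ∣ m) :
    ∃ g : G, PE p g ∧ g ∉ cz y := by
  obtain ⟨g, -, h1, h2⟩ := exists_pel_outside hp (L := cz y) (K := ⊤) (by
    rw [vp_top', Sz.vp_cs A.hy]; exact hp.factorization_pos_of_dvd (by have := A.h.hm; omega) hpm)
  exact ⟨g, h1, h2⟩

theorem hbar_eq (A : Ab G m n y) : (center G).relIndex (cz y) = n * m := by
  obtain ⟨p, hp, hpm⟩ := Nat.exists_prime_and_dvd (n := m) (by have := A.h.hm; omega)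
  obtain ⟨g, -, hg⟩ := A.exists_pel_out hp hpm
  exact (A.outside hg).2.2

theorem vp_center_p (A : Ab G m n y) {p : ℕ} (hp : p.Prime) (hpm : p ∣ m) : vp p (center G) = 2 := by
  have h1 := vp_add (p := p) (center_le_centralizer ({y} : Set G))
  rw [show vp p (centralizer ({y} : Set G)) = m.factorization p from Sz.vp_cs A.hy, A.sqfree hp hpm] at h1
  have h2 : ((center G).relIndex (centralizer ({y} : Set G))).factorization p = 1 := by
    change ((center G).relIndex (cz y)).factorization p = 1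
    rw [A.hbar_eq, Nat.factorization_mul (by have := A.h.hn; omega) (by have := A.h.hm; omega),
      Finsupp.add_apply, Nat.factorization_eq_zero_of_not_dvd (A.h.not_dvd_n hp hpm), A.sqfree hp hpm]
  omega

/-- A generator of the `p`-part modulo the centre. -/
theorem exists_gen (A : Ab G m n y) {p : ℕ} [hp : Fact p.Prime] (hpm : p ∣ m) (P : Sylow p G) :
    ∃ x ∈ (P : Subgroup G) ⊓ cz y, x ∉ center G ∧ x ^ p ∈ center G ∧
      (∀ g ∈ (P : Subgroup G), x⁻¹ * (g * x * g⁻¹) ∈ center G) ∧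
      ∀ u ∈ cz y, PE p u → u ∈ zpowers x ⊔ center G := by
  haveI hHn := A.normal
  have hX : ¬ (P : Subgroup G) ⊓ cz y ≤ center G := fun h1 => by
    have h2 := vp_inf_of_normalizes P (C := cz y) (by rw [normalizer_eq_top_iff.mpr hHn]; exact le_top)
    have h3 := vp_mono (p := p) h1
    rw [Sz.vp_cs A.hy, A.sqfree hp.out hpm] at h2
    rw [A.vp_center_p hp.out hpm] at h3
    omega
  obtain ⟨x, hx, hxz, hxp, hcx⟩ := exists_fixed_mod_center P.isPGroup' (inf_le_left)
    (fun g hg v hv => ⟨mul_mem (mul_mem hg hv.1) ((P : Subgroup G).inv_mem hg), hHn.conj_mem v hv.2 g⟩) hX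
  refine ⟨x, hx, hxz, hxp, hcx, fun u hu hpu => ?_⟩
  set L := zpowers x ⊔ center G with hL
  have hLH : L ≤ cz y := sup_le (zpowers_le.mpr hx.2) (center_le_centralizer _)
  have hd : ¬ p ∣ L.relIndex (cz y) := by
    refine not_dvd_relIndex hp.out hLH ?_
    rw [Sz.vp_cs A.hy, A.sqfree hp.out hpm]
    have h1 : vp p (center G) = ((center G).relIndex L).factorization p + vp p L := vp_add le_sup_right
    have h2 : 1 ≤ ((center G).relIndex L).factorization p := by
      refine (Nat.Prime.dvd_iff_one_le_factorization hp.out (index_ne_zero_of_finite (H := (center G).subgroupOf L))).mp ?_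
      have h3 : orderOf (⟨x, mem_sup_left (mem_zpowers x)⟩ : L) ∣ Nat.card L := orderOf_dvd_natCard _
      have h4 : (⟨x, mem_sup_left (mem_zpowers x)⟩ : L) ^ p ∈ (center G).subgroupOf L := hxp
      have h5 : orderOf ((⟨x, mem_sup_left (mem_zpowers x)⟩ : L) : L ⧸ (center G).subgroupOf L) = p := by
        refine orderOf_eq_prime ?_ ?_
        · rw [← QuotientGroup.mk_pow]; exact (QuotientGroup.eq_one_iff _).mpr h4
        · exact fun h6 => hxz (mem_subgroupOf.mp ((QuotientGroup.eq_one_iff _).mp h6))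
      have h7 : p ∣ Nat.card (L ⧸ (center G).subgroupOf L) := h5 ▸ orderOf_dvd_natCard _
      rwa [← Subgroup.index_eq_card] at h7
    rw [A.vp_center_p hp.out hpm] at h1
    omega
  obtain ⟨k, hk, hku⟩ := conj_into hp.out hd hu hpu
  rwa [(A.comm k hk u hu).eq, mul_inv_cancel_right] at hku

theorem prime (A : Ab G m n y) : m.Prime := by
  obtain ⟨p, hp, hpm⟩ := Nat.exists_prime_and_dvd (n := m) (by have := A.h.hm; omega)
  haveI := Fact.mk hp
  suffices hu : ∀ p₂ : ℕ, p₂.Prime → p₂ ∣ m → p₂ = p by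
    have h1 : m = p ^ m.primeFactorsList.length :=
      Nat.eq_prime_pow_of_unique_prime_dvd (by have := A.h.hm; omega) fun {d} hd hdm => hu d hd hdm
    have h2 := A.sqfree hp hpm
    rw [h1, hp.factorization_pow, Finsupp.single_eq_same] at h2
    rw [h1, h2, pow_one]
    exact hp
  intro p₂ hp₂ hp₂m
  by_contra hne
  obtain ⟨g, hgp, hg⟩ := A.exists_pel_out hp hpm
  obtain ⟨P, hP⟩ := hgp.choose_spec |> fun _ => (show ∃ P : Sylow p G, g ∈ (P : Subgroup G) from by
    have hR : IsPGroup p (zpowers g) := by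
      rintro ⟨v, hv⟩
      obtain ⟨k, hk⟩ := pe_of_zpowers hgp hv
      exact ⟨k, Subtype.ext (by simpa using hk)⟩
    obtain ⟨P, hP⟩ := hR.exists_le_sylow
    exact ⟨P, hP (mem_zpowers g)⟩)
  obtain ⟨x, hx, hxz, hxp, hcx, hgen⟩ := A.exists_gen hpm P
  have hgz : g ∉ center G := fun h => hg (center_le_centralizer _ h)
  obtain ⟨g₂, hg₂, hg₂p, hg₂o⟩ := exists_pel_outside hp₂ (L := center G) (K := cz g) (by
    rw [A.h.vp_nc hp₂ hp₂m hgz, A.sqfree hp₂ hp₂m, A.vp_center_p hp₂ hp₂m]; norm_num)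
  have hg₂H : g₂ ∉ cz y := fun h => hg₂o (by rw [← A.inf_cz_out hg]; exact ⟨hg₂, h⟩)
  haveI hHn := A.normal
  have hconj : g₂ * x * g₂⁻¹ ∈ zpowers x ⊔ center G :=
    hgen _ (hHn.conj_mem x hx.2 g₂) ((pe_of_mem P.isPGroup' hx.1).conj g₂)
  obtain ⟨w, hw, z, hz, e⟩ := mem_sup_of_normal_right.mp hconj
  obtain ⟨i, rfl⟩ := mem_zpowers_iff.mp hw
  set c := x⁻¹ * (g * x * g⁻¹) with hc
  have hcz : c ∈ center G := hcx g hP
  have hc1 : c ≠ 1 := fun h => hg (by
    rw [← A.eq_of_nc hx.2 hxz]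
    exact mem_cz.mpr (by rw [hc, inv_mul_eq_one, eq_comm, mul_inv_eq_iff_eq_mul] at h; exact h))
  have hcp : c ^ p = 1 := congrArg Subtype.val (commHom_pow (hu := hcx) hxp ⟨g, hP⟩)
  have hgx : g * x * g⁻¹ = x * c := by rw [hc]; group
  have hcomm : Commute g₂ g := mem_cz.mp hg₂
  have h1 : g * (x ^ i * z) * g⁻¹ = x ^ i * z * c ^ i := by
    calc g * (x ^ i * z) * g⁻¹ = (g * x * g⁻¹) ^ i * (g * z * g⁻¹) := by rw [conj_zpow]; group
      _ = x ^ i * c ^ i * z := by
        rw [hgx, (show Commute x c from mem_center_iff.mp hcz x).mul_zpow, mem_center_iff.mp hz g,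
          mul_inv_cancel_right]
      _ = _ := by rw [mul_assoc, ← mem_center_iff.mp (zpow_mem hcz i) z, ← mul_assoc]
  have h2 : g * (x ^ i * z) * g⁻¹ = x ^ i * z * c := by
    rw [e]
    calc g * (g₂ * x * g₂⁻¹) * g⁻¹ = g₂ * (g * x * g⁻¹) * g₂⁻¹ := by
          rw [show g * (g₂ * x * g₂⁻¹) * g⁻¹ = (g * g₂) * x * (g * g₂)⁻¹ by group, ← hcomm.eq]; group
      _ = g₂ * x * g₂⁻¹ * (g₂ * c * g₂⁻¹) := by rw [hgx]; group
      _ = _ := by rw [mem_center_iff.mp hcz g₂, mul_inv_cancel_right]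
  rw [h1, mul_right_inj] at h2
  have h3 : (orderOf c : ℤ) ∣ i - 1 := orderOf_dvd_sub_iff_zpow_eq_zpow.mpr (by rw [h2, zpow_one])
  rw [orderOf_eq_prime hcp hc1] at h3
  obtain ⟨l, hl⟩ := h3
  have h4 : x⁻¹ * (g₂ * x * g₂⁻¹) ∈ center G := by
    rw [← e, ← mul_assoc, ← zpow_neg_one, ← zpow_add, show (-1 : ℤ) + i = i - 1 by ring, hl, zpow_mul, zpow_natCast]
    exact mul_mem (zpow_mem hxp l) hz
  have h5 := fixed_of_central_comm hp hp₂ (Ne.symm hne) hg₂p (pe_of_mem P.isPGroup' hx.1) h4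
  exact hg₂H (by rw [← A.eq_of_nc hx.2 hxz]; exact mem_cz.mpr h5.eq)

theorem dvd_n_sub_one (A : Ab G m n y) : m ∣ n - 1 := by
  haveI := A.normal
  haveI := Fact.mk A.prime
  have hn0 : n ≠ 0 := by have := A.h.hn; omega
  have key : ∀ q ∈ n.primeFactors, ((q ^ n.factorization q : ℕ) : ZMod m) = 1 := by
    intro q hq
    obtain ⟨hqp, hqn, -⟩ := Nat.mem_primeFactors.mp hq
    have h1 := A.dvd_sub_one hqp hqn
    rw [A.relIndex_qp hqp hqn, A.hbar_eq, normalizer_eq_top_iff.mpr inferInstance, relIndex_top_right] at h1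
    change cs y ∣ _ at h1
    rw [A.hy, Nat.factorization_mul hn0 A.prime.ne_zero, Finsupp.add_apply,
      Nat.factorization_eq_zero_of_not_dvd (A.h.not_dvd_m hqp hqn), add_zero] at h1
    rw [← Nat.cast_one, eq_comm, ZMod.natCast_eq_natCast_iff']
    exact (Nat.modEq_iff_dvd' (pow_pos hqp.pos _)).mpr h1
  have h2 : ((n : ℕ) : ZMod m) = ((1 : ℕ) : ZMod m) := by
    conv_lhs => rw [← Nat.prod_factorization_pow_eq_self hn0]
    rw [Finsupp.prod, Nat.cast_prod, Nat.support_factorization, Finset.prod_congr rfl key, Finset.prod_const_one,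
      Nat.cast_one]
  exact (Nat.modEq_iff_dvd' (by omega)).mp ((ZMod.natCast_eq_natCast_iff _ _ _).mp h2).symm

theorem commutator_card (A : Ab G m n y) (P : Sylow m G) : Nat.card (commutator (P : Subgroup G)) = m := by
  haveI hHn := A.normal
  haveI := Fact.mk A.prime
  obtain ⟨x, hx, hxz, hxp, hcx, hgen⟩ := A.exists_gen dvd_rfl P
  set c := commHom (P : Subgroup G) x hcx with hc
  have hker : c.ker = (cz y).subgroupOf (P : Subgroup G) := by rw [hc, commHom_ker, A.eq_of_nc hx.2 hxz]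
  have hrange : Nat.card c.range = m := by
    rw [← Subgroup.index_ker, hker]
    show (cz y).relIndex (P : Subgroup G) = m
    rw [← inf_relIndex_right, relIndex_eq_pow P.isPGroup' inf_le_right, vp_sylow, Nat.sub_zero]
    have h1 : vp m (cz y ⊓ (P : Subgroup G)) = m.factorization m := by
      refine le_antisymm ?_ ((Sz.vp_cs A.hy).symm.le.trans (vp_mono inf_le_left))
      rw [inf_comm]
      exact (vp_inf_of_normalizes P (by rw [normalizer_eq_top_iff.mpr hHn]; exact le_top)).trans_eq (Sz.vp_cs A.hy)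
    rw [h1, A.prime.factorization_self, pow_one]
  set K := (c.range.map (center G).subtype).subgroupOf (P : Subgroup G) with hK
  have hKle : c.range.map (center G).subtype ≤ (P : Subgroup G) := by
    rintro _ ⟨_, ⟨g, rfl⟩, rfl⟩
    exact mul_mem (inv_mem hx.1) (mul_mem (mul_mem g.2 hx.1) (inv_mem g.2))
  haveI hKn : K.Normal := ⟨fun v hv g => by
    obtain ⟨z, hz, hzv⟩ := hv
    have hvz : (v : G) ∈ center G := by rw [← (show (z : G) = (v : G) from hzv)]; exact z.2
    have : g * v * g⁻¹ = v := Subtype.ext (show (g : G) * v * (g : G)⁻¹ = v by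
      rw [mem_center_iff.mp hvz g, mul_inv_cancel_right])
    rw [this]; exact ⟨z, hz, hzv⟩⟩
  have hcard : Nat.card K = m := by
    rw [hK, Nat.card_congr (subgroupOfEquivOfLe hKle).toEquiv,
      card_map_of_injective (center G).subtype_injective, hrange]
  suffices heq : commutator (P : Subgroup G) = K by rw [heq]; exact hcard
  apply le_antisymm
  · rw [_root_.commutator_def, commutator_le]
    intro v _ w _
    -- the quotient is abelian
    let f : (P : Subgroup G) ⧸ K →* c.range := QuotientGroup.lift K c.rangeRestrict fun v hv => by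
      refine Subtype.ext ((commHom_eq_one (hu := hcx) v).mpr ?_)
      obtain ⟨z, -, hzv⟩ := hv
      have hvz : (v : G) ∈ center G := by rw [← (show (z : G) = (v : G) from hzv)]; exact z.2
      exact (mem_center_iff.mp hvz x).symm
    haveI : IsCyclic c.range := isCyclic_of_prime_card (hp := inferInstance) (p := m) hrange
    have hfk : f.ker ≤ center ((P : Subgroup G) ⧸ K) := by
      intro t ht
      obtain ⟨t, rfl⟩ := QuotientGroup.mk_surjective t
      have ht' : c t = 1 := congrArg Subtype.val (MonoidHom.mem_ker.mp ht)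
      have htH : (t : G) ∈ cz y := by
        have : t ∈ c.ker := MonoidHom.mem_ker.mpr ht'
        rwa [hker] at this
      refine mem_center_iff.mpr fun s => ?_
      obtain ⟨s, rfl⟩ := QuotientGroup.mk_surjective s
      obtain ⟨w', hw', z, hz, e⟩ := mem_sup_of_normal_right.mp (hgen _ htH (pe_of_mem P.isPGroup' t.2))
      obtain ⟨i, rfl⟩ := mem_zpowers_iff.mp hw'
      rw [← QuotientGroup.mk_mul, ← QuotientGroup.mk_mul, QuotientGroup.eq]
      refine mem_subgroupOf.mpr ⟨(c s)⁻¹ ^ i, zpow_mem (inv_mem (⟨s, rfl⟩ : c s ∈ c.range)) i, ?_⟩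
      show (((c s)⁻¹ ^ i : center G) : G) = ((s : G) * t)⁻¹ * ((t : G) * s)
      rw [SubgroupClass.coe_zpow, InvMemClass.coe_inv, ← e]
      set d : G := ((c s : center G) : G) with hd
      have hdz : d ∈ center G := (c s).2
      have hsx : (s : G) * x * (s : G)⁻¹ = x * d := by
        show _ = x * (x⁻¹ * ((s : G) * x * (s : G)⁻¹)); group
      have h6 : (s : G) * (x ^ i * z) = x ^ i * z * d ^ i * s := by
        calc (s : G) * (x ^ i * z) = ((s : G) * x * (s : G)⁻¹) ^ i * ((s : G) * z) := by rw [conj_zpow]; group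
          _ = x ^ i * d ^ i * (z * s) := by
            rw [hsx, (show Commute x d from mem_center_iff.mp hdz x).mul_zpow, mem_center_iff.mp hz]
          _ = _ := by rw [← mul_assoc, mul_assoc (x ^ i), ← mem_center_iff.mp (zpow_mem hdz i) z, ← mul_assoc]
      rw [h6]
      rw [inv_zpow]
      symm
      calc (x ^ i * z * d ^ i * (s : G))⁻¹ * (x ^ i * z * s) = (s : G)⁻¹ * (d ^ i)⁻¹ * s := by group
        _ = _ := by rw [mem_center_iff.mp (inv_mem (zpow_mem hdz i)) (s : G)⁻¹, inv_mul_cancel_right]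
    have habel := commutative_of_cyclic_center_quotient f hfk (v : (P : Subgroup G) ⧸ K) w
    rw [← QuotientGroup.eq_one_iff, commutatorElement_def]
    simp only [QuotientGroup.mk_mul, QuotientGroup.mk_inv]
    rw [habel, mul_inv_cancel_right, mul_inv_cancel]
  · rintro v ⟨z, ⟨g, rfl⟩, hzv⟩
    have : v = ⁅(⟨x, hx.1⟩ : (P : Subgroup G))⁻¹, g⁆ := Subtype.ext (by
      rw [← (show _ = (v : G) from hzv), commutatorElement_def]
      show x⁻¹ * ((g : G) * x * (g : G)⁻¹) = x⁻¹ * (g : G) * (x⁻¹)⁻¹ * (g : G)⁻¹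
      group)
    rw [this, _root_.commutator_def]
    exact commutator_mem_commutator (mem_top _) (mem_top _)

theorem finish (A : Ab G m n y) :
    m.Prime ∧ m ∣ n - 1 ∧
      (∃ M : Subgroup G, M.Normal ∧ (M : Set G) = {x : G | cs x = 1 ∨ cs x = m} ∧ M.index = m ∧ IsMulCommutative M) ∧
      (∃ N : Subgroup G, N.Normal ∧ (Nat.card N).Coprime m ∧ ∃ a : ℕ, N.index = m ^ a) ∧
      ∀ P : Sylow m G, Nat.card (commutator (P : Subgroup G)) = m := by
  haveI hHn := A.normal
  have hp := A.prime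
  haveI := Fact.mk hp
  refine ⟨hp, A.dvd_n_sub_one, ⟨cz y, hHn, ?_, A.hy, ⟨⟨fun a b => Subtype.ext (A.comm a a.2 b b.2).eq⟩⟩⟩, ?_,
    A.commutator_card⟩
  · ext g
    constructor
    · intro hg
      by_cases hz : g ∈ center G
      · exact Or.inl (cs_one_iff.mpr hz)
      · exact Or.inr (by change (cz g).index = m; rw [A.eq_of_nc hg hz]; exact A.hy)
    · intro hg
      by_contra hgo
      have h1 := (A.outside hgo).1
      have h2 := A.h.hn
      have h3 := A.h.hm
      rcases hg with h4 | h4 <;> rw [h4] at h1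
      · have := Nat.eq_one_of_mul_eq_one_right h1.symm; omega
      · have := (Nat.mul_eq_left (by omega)).mp h1.symm; omega
  · let N : Subgroup G :=
      { carrier := {x | x ∈ cz y ∧ (orderOf x).Coprime m}
        one_mem' := ⟨one_mem _, by simp⟩
        mul_mem' := fun {a b} ha hb => ⟨mul_mem ha.1 hb.1,
          (Nat.Coprime.mul_left ha.2 hb.2).coprime_dvd_left (A.comm a ha.1 b hb.1).orderOf_mul_dvd_mul_orderOf⟩
        inv_mem' := fun {a} ha => ⟨inv_mem ha.1, by rw [orderOf_inv]; exact ha.2⟩ }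
    refine ⟨N, ⟨fun v hv g => ⟨hHn.conj_mem v hv.1 g, co_conj hv.2 g⟩⟩, ?_, ?_⟩
    · refine (hp.coprime_iff_not_dvd.mpr fun hd => ?_).symm
      obtain ⟨v, hv⟩ := exists_prime_orderOf_dvd_card' (G := N) m hd
      have h1 : (orderOf (v : G)).Coprime m := v.2.2
      rw [Subgroup.orderOf_coe, hv, Nat.coprime_self] at h1
      exact hp.ne_one h1
    · refine ⟨N.index.factorization m, Nat.eq_of_factorization_eq index_ne_zero_of_finite (pow_ne_zero _ hp.ne_zero) fun s => ?_⟩
      rw [hp.factorization_pow]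
      rcases eq_or_ne s m with rfl | hsm
      · rw [Finsupp.single_eq_same]
      rw [Finsupp.single_eq_of_ne hsm]
      by_cases hs : s.Prime
      swap
      · exact Nat.factorization_eq_zero_of_not_prime _ hs
      refine Nat.le_zero.mp ((vp_le_of_forall hs (L := N) (K := cz y) fun u hu hpu =>
        ⟨hu, hpu.orderOf_coprime hs hp hsm⟩).trans_eq ((Sz.vp_cs A.hy).trans ?_))
      rw [hp.factorization, Finsupp.single_eq_of_ne hsm]

end Ab

end CfsgLib.ConjTypeCop
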