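import Cfsg.Agent.Lib.ConjTypeNM.PrimePower

/-!
Groups whose class sizes are `1, m, mn` with `m`, `n` coprime: first facts, and a criterion for a
`p`-group acting semiregularly on an abelian group of coprime order.
-/

set_option autoImplicit false

namespace CfsgLib.ConjTypeCop

open Subgroup CfsgLib.CopClass CfsgLib.ConjTypeNM
open scoped IsMulCommutative

universe u
variable {G : Type u} [Group G] [Finite G]

/-- The class sizes are `1, m, mn`. -/
structure TH (G : Type u) [Group G] (m n : ℕ) : Prop where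
  hm : 1 < m
  hn : 1 < n
  cop : m.Coprime n
  val : ∀ g : G, cs g = 1 ∨ cs g = m ∨ cs g = m * n
  exm : ∃ g : G, cs g = m
  exmn : ∃ g : G, cs g = m * n

omit [Finite G] in
theorem pe_of_mem {p : ℕ} {S : Subgroup G} (hS : IsPGroup p S) {u : G} (hu : u ∈ S) : PE p u := by
  obtain ⟨k, hk⟩ := hS ⟨u, hu⟩
  exact ⟨k, congrArg Subtype.val hk⟩

omit [Finite G] in
theorem isPGroup_zpowers {p : ℕ} {x : G} (hx : PE p x) : IsPGroup p (zpowers x) := by
  rintro ⟨v, hv⟩
  obtain ⟨k, hk⟩ := pe_of_zpowers hx hv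
  exact ⟨k, Subtype.ext (by simpa using hk)⟩

omit [Finite G] in
theorem conj_mem_center {k u : G} (hk : k * u * k⁻¹ ∈ center G) : u ∈ center G := by
  simpa [mul_assoc] using (inferInstance : (center G).Normal).conj_mem _ hk k⁻¹

omit [Finite G] in
theorem conj_not_center {u : G} (hu : u ∉ center G) (k : G) : k * u * k⁻¹ ∉ center G :=
  fun h => hu (conj_mem_center h)

theorem vp_sylow {p : ℕ} [Fact p.Prime] (P : Sylow p G) : vp p (P : Subgroup G) = 0 :=
  Nat.factorization_eq_zero_of_not_dvd P.not_dvd_index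

theorem vp_top' (p : ℕ) : vp p (⊤ : Subgroup G) = 0 := by simp [vp]

/-- `P ∩ C` is a Sylow subgroup of `C` if `P` normalises `C`. -/
theorem vp_inf_of_normalizes {p : ℕ} [Fact p.Prime] (P : Sylow p G) {C : Subgroup G}
    (hP : (P : Subgroup G) ≤ normalizer (C : Set G)) : vp p ((P : Subgroup G) ⊓ C) ≤ vp p C := by
  set L := normalizer (C : Set G) with hL
  have hd : (P : Subgroup G).relIndex C ∣ (P : Subgroup G).index := by
    haveI : (C.subgroupOf L).Normal := (normal_subgroupOf_iff_le_normalizer le_normalizer).mpr le_rfl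
    have h1 := CfsgLib.relIndex_dvd_index_of_normal_top ((P : Subgroup G).subgroupOf L) (C.subgroupOf L)
    rw [relIndex_subgroupOf le_normalizer] at h1
    exact h1.trans (Dvd.intro _ (relIndex_mul_index hP))
  rw [vp_add (p := p) (inf_le_right : (P : Subgroup G) ⊓ C ≤ C), inf_relIndex_right,
    Nat.factorization_eq_zero_of_not_dvd fun h => P.not_dvd_index (h.trans hd), zero_add]

/-- Every subgroup has a Sylow subgroup cut out by one of `G`. -/
theorem exists_sylow_inf {p : ℕ} [Fact p.Prime] (C : Subgroup G) :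
    ∃ P : Sylow p G, vp p ((P : Subgroup G) ⊓ C) ≤ vp p C := by
  let Q : Sylow p C := default
  obtain ⟨P, hP⟩ := (Q.isPGroup'.map C.subtype).exists_le_sylow
  refine ⟨P, (vp_mono (le_inf hP (map_subtype_le _))).trans (le_of_eq ?_)⟩
  unfold vp
  rw [index_map_subtype, Nat.factorization_mul index_ne_zero_of_finite index_ne_zero_of_finite,
    Finsupp.add_apply, Nat.factorization_eq_zero_of_not_dvd Q.not_dvd_index, zero_add]

theorem relIndex_eq_pow {p : ℕ} [hp : Fact p.Prime] {S P : Subgroup G} (hP : IsPGroup p P) (hSP : S ≤ P) :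
    S.relIndex P = p ^ (vp p S - vp p P) := by
  obtain ⟨k, hk⟩ := hP.index (S.subgroupOf P)
  change S.relIndex P = p ^ k at hk
  have h1 := vp_add (p := p) hSP
  rw [hk, hp.out.factorization_pow, Finsupp.single_eq_same] at h1
  rw [hk, h1, Nat.add_sub_cancel_right]

theorem exists_pel_outside {p : ℕ} (hp : p.Prime) {L K : Subgroup G} (h : vp p K < vp p L) :
    ∃ u ∈ K, PE p u ∧ u ∉ L := by
  by_contra hcon
  push Not at hcon
  exact absurd (vp_le_of_forall hp hcon) (not_le.mpr h)

namespace TH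

variable {m n : ℕ}

theorem mn_pos (h : TH G m n) : 0 < m * n := Nat.mul_pos (by have := h.hm; omega) (by have := h.hn; omega)

omit [Finite G] in
theorem cs_dvd (h : TH G m n) (g : G) : cs g ∣ m * n := by
  rcases h.val g with h1 | h1 | h1 <;> rw [h1] <;> simp

theorem cs_le (h : TH G m n) (g : G) : cs g ≤ m * n := Nat.le_of_dvd h.mn_pos (h.cs_dvd g)

theorem of_nc (h : TH G m n) {g : G} (hg : g ∉ center G) : cs g = m ∨ cs g = m * n :=
  (h.val g).resolve_left fun e => hg (cs_one_iff.mp e)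

omit [Finite G] in
theorem n_not_dvd_m (h : TH G m n) : ¬ n ∣ m := fun hd => by
  have := Nat.eq_one_of_dvd_coprimes h.cop hd dvd_rfl
  have := h.hn
  omega

omit [Finite G] in
theorem of_dvd_m (h : TH G m n) {g : G} (hd : cs g ∣ m) : cs g = 1 ∨ cs g = m := by
  rcases h.val g with h1 | h1 | h1
  · exact Or.inl h1
  · exact Or.inr h1
  · rw [h1] at hd; exact absurd ((dvd_mul_left n m).trans hd) h.n_not_dvd_m

omit [Finite G] in
theorem not_dvd_n (h : TH G m n) {p : ℕ} (hp : p.Prime) (hpm : p ∣ m) : ¬ p ∣ n := fun hd =>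
  hp.ne_one (Nat.eq_one_of_dvd_coprimes h.cop hpm hd)

omit [Finite G] in
theorem not_dvd_m (h : TH G m n) {q : ℕ} (hq : q.Prime) (hqn : q ∣ n) : ¬ q ∣ m := fun hd =>
  h.not_dvd_n hq hd hqn

omit [Finite G] in
theorem fp_mn (h : TH G m n) {p : ℕ} (hp : p.Prime) (hpm : p ∣ m) :
    (m * n).factorization p = m.factorization p := by
  rw [Nat.factorization_mul (by have := h.hm; omega) (by have := h.hn; omega), Finsupp.add_apply,
    Nat.factorization_eq_zero_of_not_dvd (h.not_dvd_n hp hpm), add_zero]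

omit [Finite G] in
theorem fq_mn (h : TH G m n) {q : ℕ} (hq : q.Prime) (hqn : q ∣ n) :
    (m * n).factorization q = n.factorization q := by
  rw [Nat.factorization_mul (by have := h.hm; omega) (by have := h.hn; omega), Finsupp.add_apply,
    Nat.factorization_eq_zero_of_not_dvd (h.not_dvd_m hq hqn), zero_add]

theorem vp_nc (h : TH G m n) {p : ℕ} (hp : p.Prime) (hpm : p ∣ m) {g : G} (hg : g ∉ center G) :
    vp p (cz g) = m.factorization p := by
  rcases h.of_nc hg with h1 | h1
  · exact Sz.vp_cs h1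
  · rw [Sz.vp_cs h1, h.fp_mn hp hpm]

theorem vp_le (h : TH G m n) {p : ℕ} (hp : p.Prime) (hpm : p ∣ m) (g : G) :
    vp p (cz g) ≤ m.factorization p := by
  by_cases hg : g ∈ center G
  · have h1 : cs g = 1 := cs_one_iff.mpr hg
    rw [Sz.vp_cs h1, Nat.factorization_one]
    exact Nat.zero_le _
  · exact (h.vp_nc hp hpm hg).le

theorem nc_of_cs (h : TH G m n) {g : G} (hg : cs g = m) : g ∉ center G :=
  Sz.not_central_of_cs hg h.hm

theorem vp_center_gt (h : TH G m n) {p : ℕ} (hp : p.Prime) (hpm : p ∣ m) :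
    m.factorization p < vp p (center G) := by
  have ha : 0 < m.factorization p := hp.factorization_pos_of_dvd (by have := h.hm; omega) hpm
  obtain ⟨y, hy⟩ := h.exm
  obtain ⟨x, -, hpx, hxz⟩ := exists_pel_outside hp (L := center G) (K := ⊤) (by
    rw [vp_top']
    exact lt_of_lt_of_le ha ((h.vp_nc hp hpm (h.nc_of_cs hy)).symm.le.trans (vp_mono (center_le_centralizer _))))
  by_contra hle
  push Not at hle
  obtain ⟨k, -, hk⟩ := conj_into' hp (center_le_centralizer ({x} : Set G))
    (hle.trans (h.vp_nc hp hpm hxz).ge) (mem_cz.mpr rfl) hpx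
  exact hxz (conj_mem_center hk)

/-- Every centraliser contains a non-central `p`-element, for `p ∣ m`. -/
theorem exists_nc_pel (h : TH G m n) {p : ℕ} (hp : p.Prime) (hpm : p ∣ m) (g : G) :
    ∃ x ∈ cz g, PE p x ∧ x ∉ center G :=
  exists_pel_outside hp ((h.vp_le hp hpm g).trans_lt (h.vp_center_gt hp hpm))

/-- An element centralising a Sylow subgroup for a prime dividing `m` is central. -/
theorem central_of_sylow (h : TH G m n) {p : ℕ} [hp : Fact p.Prime] (hpm : p ∣ m) {z : G}
    (hz : vp p (cz z) = 0) : z ∈ center G := by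
  by_contra hc
  have h1 := h.vp_nc hp.out hpm hc
  have := hp.out.factorization_pos_of_dvd (by have := h.hm; omega) hpm
  omega

theorem relIndex_cases (h : TH G m n) {a w : G} (ca : cs a = m) (hw : w ∈ cz a)
    (hco : (orderOf a).Coprime (orderOf w)) : (cz w).relIndex (cz a) = 1 ∨ (cz w).relIndex (cz a) = n := by
  have hc : cz (a * w) = cz a ⊓ cz w := inf_cz_eq (show Commute w a from mem_cz.mp hw).symm hco
  have h1 : (cz w).relIndex (cz a) * m = cs (a * w) := by
    show _ = (cz (a * w)).index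
    rw [hc, ← relIndex_mul_index (inf_le_left : cz a ⊓ cz w ≤ cz a), inf_relIndex_left]
    show _ = _ * cs a
    rw [ca]
  have hm0 : 0 < m := by have := h.hm; omega
  rcases h.val (a * w) with h2 | h2 | h2
  · rw [h2] at h1
    have := h.hm
    have := Nat.eq_one_of_mul_eq_one_left h1
    omega
  · left; rw [h2] at h1; exact (Nat.mul_eq_right hm0.ne').mp h1
  · right; rw [h2, mul_comm m n] at h1; exact Nat.eq_of_mul_eq_mul_right hm0 h1

/-- In the centraliser of an element of size `mn`, the coprime elements are central. -/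
theorem le_of_mn (h : TH G m n) {x v : G} (hx : cs x = m * n) (hv : v ∈ cz x)
    (hco : (orderOf x).Coprime (orderOf v)) : cz x ≤ cz v := by
  have h1 : cz (x * v) = cz x ⊓ cz v := inf_cz_eq (show Commute v x from mem_cz.mp hv).symm hco
  have h2 : cz (x * v) = cz x := eq_of_le_of_index ((le_of_eq h1).trans inf_le_left) (by
    change cs (x * v) ≤ cs x; rw [hx]; exact h.cs_le _)
  exact (le_of_eq h2.symm).trans ((le_of_eq h1).trans inf_le_right)

theorem exists_primary_m (h : TH G m n) : ∃ s : ℕ, s.Prime ∧ ∃ a : G, PE s a ∧ cs a = m := by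
  obtain ⟨g, hg⟩ := h.exm
  obtain ⟨s, hs, u, hu, hpu, huz⟩ := exists_prim (S := center G) (h.nc_of_cs hg)
  refine ⟨s, hs, u, hpu, ?_⟩
  rcases h.of_dvd_m (hg ▸ cs_dvd_of_zpowers hu) with h1 | h1
  · exact absurd (cs_one_iff.mp h1) huz
  · exact h1

end TH

/-! ### Elements central in a `p`-group modulo the centre of `G` -/

/-- `g ↦ u⁻¹ (g u g⁻¹)`, for `u` central modulo `Z(G)`. -/
def commHom (P : Subgroup G) (u : G) (hu : ∀ g ∈ P, u⁻¹ * (g * u * g⁻¹) ∈ center G) : P →* center G where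
  toFun g := ⟨u⁻¹ * ((g : G) * u * (g : G)⁻¹), hu g g.2⟩
  map_one' := Subtype.ext (by simp)
  map_mul' g k := Subtype.ext (by
    show u⁻¹ * ((g : G) * k * u * ((g : G) * k)⁻¹) = (u⁻¹ * ((g : G) * u * (g : G)⁻¹)) * (u⁻¹ * ((k : G) * u * (k : G)⁻¹))
    have hc := mem_center_iff.mp (hu k k.2) (g : G)
    calc u⁻¹ * ((g : G) * k * u * ((g : G) * k)⁻¹)
        = u⁻¹ * ((g : G) * u * (u⁻¹ * ((k : G) * u * (k : G)⁻¹))) * (g : G)⁻¹ := by group
      _ = u⁻¹ * ((g : G) * u) * ((u⁻¹ * ((k : G) * u * (k : G)⁻¹)) * (g : G)⁻¹) := by group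
      _ = u⁻¹ * ((g : G) * u) * ((g : G)⁻¹ * (u⁻¹ * ((k : G) * u * (k : G)⁻¹))) := by
          rw [(show Commute (g : G) _ from hc).inv_left.eq]
      _ = _ := by group)

omit [Finite G] in
theorem commHom_eq_one {P : Subgroup G} {u : G} {hu : ∀ g ∈ P, u⁻¹ * (g * u * g⁻¹) ∈ center G} (g : P) :
    commHom P u hu g = 1 ↔ Commute (g : G) u := by
  rw [Subtype.ext_iff]
  show u⁻¹ * ((g : G) * u * (g : G)⁻¹) = 1 ↔ _
  rw [inv_mul_eq_one, eq_comm, mul_inv_eq_iff_eq_mul]
  exact Iff.rfl

omit [Finite G] in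
theorem commHom_ker {P : Subgroup G} {u : G} {hu : ∀ g ∈ P, u⁻¹ * (g * u * g⁻¹) ∈ center G} :
    (commHom P u hu).ker = (cz u).subgroupOf P := by
  ext g
  rw [MonoidHom.mem_ker, commHom_eq_one, mem_subgroupOf, mem_cz]
  exact Iff.rfl

omit [Finite G] in
theorem commHom_pow {P : Subgroup G} {u : G} {hu : ∀ g ∈ P, u⁻¹ * (g * u * g⁻¹) ∈ center G} {p : ℕ}
    (hup : u ^ p ∈ center G) (g : P) : commHom P u hu g ^ p = 1 := by
  apply Subtype.ext
  show (u⁻¹ * ((g : G) * u * (g : G)⁻¹)) ^ p = 1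
  set c := u⁻¹ * ((g : G) * u * (g : G)⁻¹) with hc
  have hcz : c ∈ center G := hu g g.2
  have h1 : (g : G) * u * (g : G)⁻¹ = u * c := by rw [hc]; group
  have h2 : (u * c) ^ p = u ^ p := by
    rw [← h1, conj_pow, mem_center_iff.mp hup (g : G), mul_inv_cancel_right]
  rw [(show Commute u c from mem_center_iff.mp hcz u).mul_pow, mul_eq_left] at h2
  exact h2

/-- A `p`-subgroup with an element, inside a normalised subgroup, central modulo the centre of `G`. -/
theorem exists_fixed_mod_center {p : ℕ} [hp : Fact p.Prime] {P X : Subgroup G} (hP : IsPGroup p P)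
    (hXP : X ≤ P) (hn : ∀ g ∈ P, ∀ x ∈ X, g * x * g⁻¹ ∈ X) (hX : ¬ X ≤ center G) :
    ∃ u ∈ X, u ∉ center G ∧ u ^ p ∈ center G ∧ ∀ g ∈ P, u⁻¹ * (g * u * g⁻¹) ∈ center G := by
  let π : P →* P ⧸ (center G).subgroupOf P := QuotientGroup.mk' _
  haveI : (X.subgroupOf P).Normal := ⟨fun x hx g => hn g g.2 x hx⟩
  haveI : Group.IsNilpotent (P ⧸ (center G).subgroupOf P) := (hP.to_quotient _).isNilpotent
  set X' := (X.subgroupOf P).map π with hX'
  haveI : X'.Normal := Subgroup.Normal.map inferInstance π (QuotientGroup.mk'_surjective _)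
  have hne : X' ≠ ⊥ := fun h0 => hX fun x hx => by
    have h1 : π ⟨x, hXP hx⟩ ∈ X' := mem_map_of_mem π (show (⟨x, hXP hx⟩ : P) ∈ X.subgroupOf P from hx)
    rw [h0, mem_bot] at h1
    exact mem_subgroupOf.mp ((QuotientGroup.eq_one_iff _).mp h1)
  have hI := CfsgLib.inf_center_ne_bot_of_nilpotent hne
  have hpd : p ∣ Nat.card (X' ⊓ center (P ⧸ (center G).subgroupOf P) : Subgroup (P ⧸ (center G).subgroupOf P)) := by
    obtain ⟨k, hk⟩ := IsPGroup.iff_card.mp ((hP.to_quotient _).to_subgroup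
      (X' ⊓ center (P ⧸ (center G).subgroupOf P)))
    rcases Nat.eq_zero_or_pos k with rfl | hk0
    · rw [pow_zero] at hk
      exact absurd (Subgroup.eq_bot_of_card_eq _ hk) hI
    · exact hk ▸ dvd_pow_self p hk0.ne'
  obtain ⟨⟨q, hqX, hqc⟩, hq⟩ := exists_prime_orderOf_dvd_card' p hpd
  replace hq : orderOf q = p := (Subgroup.orderOf_coe _).symm.symm.trans hq
  obtain ⟨v, hv, rfl⟩ := hqX
  refine ⟨v, hv, fun hvz => hp.out.ne_one ?_, ?_, fun g hg => ?_⟩
  · rw [← hq, orderOf_eq_one_iff]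
    exact (QuotientGroup.eq_one_iff _).mpr (mem_subgroupOf.mpr hvz)
  · have h1 : π (v ^ p) = 1 := by rw [map_pow, ← hq, pow_orderOf_eq_one]
    exact mem_subgroupOf.mp ((QuotientGroup.eq_one_iff (v ^ p)).mp h1)
  · have h1 : π (v⁻¹ * (⟨g, hg⟩ * v * (⟨g, hg⟩ : P)⁻¹)) = 1 := by
      rw [map_mul, map_mul, map_mul, mem_center_iff.mp hqc (π ⟨g, hg⟩), map_inv, map_inv,
        mul_inv_cancel_right, inv_mul_cancel]
    exact mem_subgroupOf.mp ((QuotientGroup.eq_one_iff (v⁻¹ * ((⟨g, hg⟩ : P) * v * (⟨g, hg⟩ : P)⁻¹))).mp h1)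

theorem lt_norm {p : ℕ} [Fact p.Prime] {P X : Subgroup G} (hP : IsPGroup p P) (hXP : X ≤ P) (hne : X ≠ P) :
    X < P ⊓ normalizer (X : Set G) := by
  haveI : Group.IsNilpotent P := hP.isNilpotent
  refine lt_of_le_of_ne (le_inf hXP le_normalizer) fun h => ?_
  have hXP' : X.subgroupOf P < ⊤ := lt_top_iff_ne_top.mpr fun e => hne (le_antisymm hXP (subgroupOf_eq_top.mp e))
  have h1 := Group.normalizerCondition_of_isNilpotent _ hXP'
  rw [← subgroupOf_normalizer_eq hXP] at h1
  refine h1.not_ge fun y hy => ?_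
  have : (y : G) ∈ P ⊓ normalizer (X : Set G) := ⟨y.2, hy⟩
  rw [← h] at this
  exact this

/-- Two primary elements of coprime orders whose commutator is central commute. -/
theorem fixed_of_central_comm {p s : ℕ} (hp : p.Prime) (hs : s.Prime) (hps : p ≠ s) {g x : G}
    (hg : PE s g) (hx : PE p x) (hc : x⁻¹ * (g * x * g⁻¹) ∈ center G) : Commute g x := by
  set c := x⁻¹ * (g * x * g⁻¹) with hcd
  have e : g * x * g⁻¹ = x * c := by rw [hcd]; group
  obtain ⟨k, hk⟩ := hx
  obtain ⟨l, hl⟩ := hg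
  have h1 : c ^ p ^ k = 1 := by
    have h2 : (g * x * g⁻¹) ^ p ^ k = 1 := by rw [conj_pow, hk]; group
    rwa [e, (show Commute x c from mem_center_iff.mp hc x).mul_pow, hk, one_mul] at h2
  have hiter : ∀ j : ℕ, g ^ j * x * (g ^ j)⁻¹ = x * c ^ j := by
    intro j
    induction j with
    | zero => simp
    | succ j ih =>
      calc g ^ (j + 1) * x * (g ^ (j + 1))⁻¹ = g * (g ^ j * x * (g ^ j)⁻¹) * g⁻¹ := by rw [pow_succ']; group
        _ = g * x * (c ^ j * g⁻¹) := by rw [ih]; group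
        _ = g * x * (g⁻¹ * c ^ j) := by rw [← mem_center_iff.mp (pow_mem hc j) g⁻¹]
        _ = x * c ^ (j + 1) := by rw [← mul_assoc, e, pow_succ']; group
  have h2 : c ^ s ^ l = 1 := by
    have := hiter (s ^ l)
    rwa [hl, one_mul, inv_one, mul_one, left_eq_mul] at this
  have h3 : c = 1 := PE.eq_one ⟨k, h1⟩ (PE.orderOf_coprime hs hp (Ne.symm hps) ⟨l, h2⟩)
  rw [h3, mul_one, mul_inv_eq_iff_eq_mul] at e
  exact e

/-- If all stabilisers equal `K`, the index of `K` divides the number of points. -/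
theorem index_dvd_card {M α : Type*} [Group M] [Finite α] [MulAction M α] {K : Subgroup M}
    (h : ∀ a : α, MulAction.stabilizer M a = K) : K.index ∣ Nat.card α := by
  classical
  haveI : Fintype (MulAction.orbitRel.Quotient M α) := Fintype.ofFinite _
  have e := Nat.card_congr (MulAction.selfEquivSigmaOrbitsQuotientStabilizer M α)
  rcases isEmpty_or_nonempty α with he | hne
  · simp
  haveI : Finite (M ⧸ K) := by
    obtain ⟨a⟩ := hne
    rw [← h a]
    exact Finite.of_equiv _ (MulAction.orbitEquivQuotientStabilizer M a)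
  haveI : ∀ a : Quotient (MulAction.orbitRel M α), Finite (M ⧸ MulAction.stabilizer M a.out) := fun a => by
    rw [h]; infer_instance
  rw [Nat.card_sigma] at e
  simp only [h, ← Subgroup.index_eq_card, Finset.sum_const, smul_eq_mul] at e
  rw [e]
  exact dvd_mul_left _ _

theorem norm_identity {R : Type*} [Ring R] {p : ℕ} [hp : Fact p.Prime] (x y : R) (hxy : Commute x y)
    (hy : y ^ p = 1) :
    (∑ i ∈ Finset.range p, ∑ j ∈ Finset.range p, (x * y ^ i) ^ j) + ∑ j ∈ Finset.range p, y ^ j =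
      (p : R) + (∑ j ∈ Finset.range p, x ^ j) * ∑ j ∈ Finset.range p, y ^ j := by
  classical
  have hp0 : 0 < p := hp.out.pos
  have hin : ∀ j ∈ Finset.range p, j ≠ 0 →
      ∑ i ∈ Finset.range p, (x * y ^ i) ^ j = x ^ j * ∑ i ∈ Finset.range p, y ^ i := by
    intro j hj hj0
    rw [Finset.mul_sum]
    refine Finset.sum_bij (fun i _ => (i * j) % p) (fun i _ => Finset.mem_range.mpr (Nat.mod_lt _ hp0))
      (fun a ha b hb e => ?_) (fun c hc => ?_) (fun i _ => ?_)
    · have h1 : a ≡ b [MOD p] := Nat.ModEq.cancel_right_of_coprime (c := j) (by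
        have h2 : ¬ p ∣ j := fun hd => by
          have := Nat.le_of_dvd (Nat.pos_of_ne_zero hj0) hd
          have := Finset.mem_range.mp hj
          omega
        exact (hp.out.coprime_iff_not_dvd.mpr h2)) e
      rwa [Nat.ModEq, Nat.mod_eq_of_lt (Finset.mem_range.mp ha), Nat.mod_eq_of_lt (Finset.mem_range.mp hb)] at h1
    · have hu : (j : ZMod p) ≠ 0 := fun h0 => by
        rw [ZMod.natCast_eq_zero_iff] at h0
        have := Nat.le_of_dvd (Nat.pos_of_ne_zero hj0) h0
        have := Finset.mem_range.mp hj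
        omega
      refine ⟨((c : ZMod p) * (j : ZMod p)⁻¹).val, Finset.mem_range.mpr (ZMod.val_lt _), ?_⟩
      rw [← ZMod.val_natCast, Nat.cast_mul, ZMod.natCast_zmod_val, mul_assoc, inv_mul_cancel₀ hu, mul_one,
        ZMod.val_natCast, Nat.mod_eq_of_lt (Finset.mem_range.mp hc)]
    · rw [(hxy.pow_right i).mul_pow, ← pow_mul, ← pow_eq_pow_mod _ hy]
  rw [Finset.sum_comm, ← Finset.add_sum_erase _ _ (Finset.mem_range.mpr hp0)]
  simp only [pow_zero, Finset.sum_const, Finset.card_range, nsmul_eq_mul, mul_one]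
  rw [Finset.sum_congr rfl fun j hj => hin j (Finset.mem_of_mem_erase hj) (Finset.ne_of_mem_erase hj),
    ← Finset.add_sum_erase _ (fun j => x ^ j) (Finset.mem_range.mpr hp0), pow_zero, add_mul, one_mul,
    ← Finset.sum_mul]
  abel

omit [Finite G] in
/-- The action of the normaliser on an abelian subgroup, as additive endomorphisms. -/
noncomputable def endHom (V : Subgroup G) [IsMulCommutative V] :
    normalizer (V : Set G) →* AddMonoid.End (Additive V) where
  toFun k := MonoidHom.toAdditive (normalizerMonoidHom V k).toMonoidHom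
  map_one' := by rw [map_one]; exact AddMonoidHom.ext fun v => rfl
  map_mul' k l := by rw [map_mul]; exact AddMonoidHom.ext fun v => rfl

omit [Finite G] in
theorem endHom_apply (V : Subgroup G) [IsMulCommutative V] (k : normalizer (V : Set G)) (v : Additive V) :
    ((Additive.toMul (endHom V k v) : V) : G) = (k : G) * (Additive.toMul v : V) * (k : G)⁻¹ := rfl

/-- Two commuting actions of order `p`, all lines without fixed points. -/
theorem no_two_dim {p : ℕ} [hp : Fact p.Prime] {V : Subgroup G} (hV : ∀ u ∈ V, ∀ w ∈ V, Commute u w)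
    (hco : (Nat.card V).Coprime p) {g h : G} (hgn : g ∈ normalizer (V : Set G))
    (hhn : h ∈ normalizer (V : Set G)) (hgp : ∀ v ∈ V, Commute (g ^ p) v) (hhp : ∀ v ∈ V, Commute (h ^ p) v)
    (hgh : ∀ v ∈ V, Commute (g⁻¹ * h⁻¹ * g * h) v)
    (hfix : ∀ i : ℕ, ∀ v ∈ V, Commute (g * h ^ i) v → v ∈ center G)
    (hfix' : ∀ v ∈ V, Commute h v → v ∈ center G) : V ≤ center G := by
  haveI : IsMulCommutative V := ⟨⟨fun a b => Subtype.ext (hV a a.2 b b.2).eq⟩⟩
  have hone : ∀ k : normalizer (V : Set G), (∀ v ∈ V, Commute (k : G) v) → endHom V k = 1 := fun k hk => by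
    ext w
    rw [endHom_apply, (hk _ (Additive.toMul w).2).eq, mul_inv_cancel_right]
    rfl
  set x := endHom V ⟨g, hgn⟩ with hx
  set y := endHom V ⟨h, hhn⟩ with hy
  have hxy : Commute x y := by
    have e : (⟨g, hgn⟩ * ⟨h, hhn⟩ : normalizer (V : Set G)) =
        ⟨h, hhn⟩ * ⟨g, hgn⟩ * ((⟨g, hgn⟩ : normalizer (V : Set G))⁻¹ * ⟨h, hhn⟩⁻¹ * ⟨g, hgn⟩ * ⟨h, hhn⟩) := by group
    show x * y = y * x
    rw [hx, hy, ← map_mul, e, map_mul, map_mul,
      hone ((⟨g, hgn⟩ : normalizer (V : Set G))⁻¹ * ⟨h, hhn⟩⁻¹ * ⟨g, hgn⟩ * ⟨h, hhn⟩) hgh, mul_one]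
  have hxp : x ^ p = 1 := by rw [hx, ← map_pow]; exact hone _ hgp
  have hyp : y ^ p = 1 := by rw [hy, ← map_pow]; exact hone _ hhp
  have hcen : ∀ (k : normalizer (V : Set G)), (∀ v ∈ V, Commute (k : G) v → v ∈ center G) →
      endHom V k ^ p = 1 → ∀ w : Additive V,
      ((Additive.toMul ((∑ j ∈ Finset.range p, endHom V k ^ j) w) : V) : G) ∈ center G := by
    intro k hk hkp w
    refine hk _ (SetLike.coe_mem _) ?_
    have h1 : endHom V k * (∑ j ∈ Finset.range p, endHom V k ^ j) = ∑ j ∈ Finset.range p, endHom V k ^ j := by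
      have := mul_geom_sum (endHom V k) p
      rw [hkp, sub_self, sub_mul, one_mul, sub_eq_zero] at this
      exact this
    have h2 := DFunLike.congr_fun h1 w
    have h3 := congrArg (fun z : Additive V => ((Additive.toMul z : V) : G)) h2
    simp only [AddMonoid.End.coe_mul, Function.comp_apply, endHom_apply] at h3
    exact mul_inv_eq_iff_eq_mul.mp h3
  intro v hv
  have hid := DFunLike.congr_fun (norm_identity (p := p) x y hxy hyp) (Additive.ofMul (⟨v, hv⟩ : V))
  let C : AddSubgroup (Additive V) := Subgroup.toAddSubgroup ((center G).subgroupOf V)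
  have hmem : ∀ w : Additive V, w ∈ C ↔ ((Additive.toMul w : V) : G) ∈ center G := fun w => Iff.rfl
  have hpz : (p : AddMonoid.End (Additive V)) (Additive.ofMul (⟨v, hv⟩ : V)) ∈ C := by
    have h1 : (p : AddMonoid.End (Additive V)) (Additive.ofMul (⟨v, hv⟩ : V)) =
        (∑ i ∈ Finset.range p, ∑ j ∈ Finset.range p, (x * y ^ i) ^ j) (Additive.ofMul ⟨v, hv⟩) +
          (∑ j ∈ Finset.range p, y ^ j) (Additive.ofMul ⟨v, hv⟩) -
        (∑ j ∈ Finset.range p, y ^ j) ((∑ j ∈ Finset.range p, x ^ j) (Additive.ofMul ⟨v, hv⟩)) := by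
      have hc : Commute (∑ j ∈ Finset.range p, x ^ j) (∑ j ∈ Finset.range p, y ^ j) :=
        Commute.sum_left _ _ _ fun i _ => Commute.sum_right _ _ _ fun j _ => hxy.pow_pow i j
      rw [hc.eq] at hid
      rw [eq_sub_iff_add_eq]
      exact hid.symm
    rw [h1]
    refine sub_mem (add_mem ?_ ((hmem _).mpr (hcen _ hfix' hyp _))) ((hmem _).mpr (hcen _ hfix' hyp _))
    let ev : AddMonoid.End (Additive V) →+ Additive V :=
      { toFun := fun f => f (Additive.ofMul (⟨v, hv⟩ : V))
        map_zero' := rfl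
        map_add' := fun _ _ => rfl }
    show ev (∑ i ∈ Finset.range p, ∑ j ∈ Finset.range p, (x * y ^ i) ^ j) ∈ C
    rw [map_sum]
    refine sum_mem fun i _ => ?_
    have e : x * y ^ i = endHom V (⟨g, hgn⟩ * ⟨h, hhn⟩ ^ i) := by rw [map_mul, map_pow]
    have h2 := hcen (⟨g, hgn⟩ * ⟨h, hhn⟩ ^ i) (fun w hw hc => hfix i w hw (by simpa using hc))
      (by rw [← e, (hxy.pow_right i).mul_pow, hxp, one_mul, ← pow_mul, mul_comm, pow_mul, hyp, one_pow])
      (Additive.ofMul ⟨v, hv⟩)
    rw [← e] at h2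
    exact (hmem _).mpr h2
  have hvp : v ^ p ∈ center G := by
    have := (hmem _).mp hpz
    simpa [AddMonoid.End.natCast_apply] using this
  obtain ⟨k, hk⟩ := exists_pow_eq_self_of_coprime
    (show p.Coprime (orderOf v) from hco.symm.coprime_dvd_right (V.orderOf_dvd_natCard hv))
  rw [← hk]
  exact pow_mem hvp k

/-- A `p`-group acting semiregularly on an abelian group of coprime order: the elementary quotient is cyclic. -/
theorem relIndex_dvd_prime {p : ℕ} [hp : Fact p.Prime] {P V : Subgroup G} {u : G}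
    (hu : ∀ g ∈ P, u⁻¹ * (g * u * g⁻¹) ∈ center G) (hup : u ^ p ∈ center G)
    (hV : ∀ a ∈ V, ∀ w ∈ V, Commute a w) (hco : (Nat.card V).Coprime p) (hVz : ¬ V ≤ center G)
    (hPV : P ≤ normalizer (V : Set G))
    (hst : ∀ g ∈ P, ∀ v ∈ V, v ∉ center G → Commute g v → Commute g u)
    (hker : ∀ g ∈ P, Commute g u → ∀ v ∈ V, Commute g v) : (cz u).relIndex P ∣ p := by
  set c := commHom P u hu with hc
  have hidx : (cz u).relIndex P = Nat.card c.range := by
    show ((cz u).subgroupOf P).index = _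
    rw [← commHom_ker (hu := hu), Subgroup.index_ker]
  rw [hidx]
  by_cases htriv : ∀ g : P, c g = 1
  · have : c.range = ⊥ := by
      rw [eq_bot_iff]
      rintro _ ⟨g, rfl⟩
      exact mem_bot.mpr (htriv g)
    rw [this, Subgroup.card_bot]
    exact one_dvd _
  push Not at htriv
  obtain ⟨g, hg⟩ := htriv
  have hord : orderOf (c g) = p := orderOf_eq_prime (commHom_pow hup g) hg
  have hle : c.range ≤ zpowers (c g) := by
    rintro _ ⟨k, rfl⟩
    by_contra hk
    have hk1 : c k ≠ 1 := fun e => hk (e ▸ one_mem _)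
    refine hVz (no_two_dim hV hco (hPV g.2) (hPV k.2)
      (fun v hv => hker _ (g ^ p).2 ((commHom_eq_one (hu := hu) _).mp (by rw [map_pow]; exact commHom_pow hup g)) v hv)
      (fun v hv => hker _ (k ^ p).2 ((commHom_eq_one (hu := hu) _).mp (by rw [map_pow]; exact commHom_pow hup k)) v hv)
      (fun v hv => hker _ (g⁻¹ * k⁻¹ * g * k).2 ((commHom_eq_one (hu := hu) _).mp (by
        simp only [map_mul, map_inv]
        have hcm : c g * c k = c k * c g := Subtype.ext (mem_center_iff.mp (c k).2 _)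
        calc (c g)⁻¹ * (c k)⁻¹ * c g * c k = (c k * c g)⁻¹ * (c g * c k) := by group
          _ = 1 := by rw [hcm, inv_mul_cancel])) v hv)
      (fun i v hv hcomm => ?_) (fun v hv hcomm => ?_))
    · by_contra hvz
      have h2 := hst _ (g * k ^ i).2 v hv hvz (by simpa using hcomm)
      have h1 : c (g * k ^ i) = 1 := (commHom_eq_one _).mpr h2
      rw [map_mul, map_pow, mul_eq_one_iff_eq_inv] at h1
      have hgk : zpowers (c g) ≤ zpowers (c k) := zpowers_le.mpr (h1 ▸ inv_mem (pow_mem (mem_zpowers _) i))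
      have heq : zpowers (c g) = zpowers (c k) := Subgroup.eq_of_le_of_card_ge hgk (by
        rw [Nat.card_zpowers, Nat.card_zpowers, hord]
        exact (orderOf_eq_prime (commHom_pow hup k) hk1).le)
      exact hk (heq ▸ mem_zpowers _)
    · by_contra hvz
      exact hk1 ((commHom_eq_one _).mpr (hst _ k.2 v hv hvz hcomm))
  rw [← hord, ← Nat.card_zpowers]
  exact card_dvd_of_le hle

end CfsgLib.ConjTypeCop
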