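import Cfsg.Agent.Lib.ConjTypeCop.CaseSmall

/-!
Class sizes `1, m, mn`: it is impossible that all primary elements of size `m` are for primes dividing `n`.
-/

set_option autoImplicit false

namespace CfsgLib.ConjTypeCop

open Subgroup CfsgLib.CopClass CfsgLib.ConjTypeNM

universe u
variable {G : Type u} [Group G] [Finite G] {m n : ℕ}

/-- All primary elements of class size `m` belong to primes dividing `n`. -/
structure Big (G : Type u) [Group G] (m n : ℕ) : Prop where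
  h : TH G m n
  hall : ∀ s : ℕ, s.Prime → ∀ a : G, PE s a → cs a = m → s ∣ n

/-- `P` normalises `C(u)` if it fixes `u` modulo the centre. -/
theorem norm_cz_of_fixed {P : Subgroup G} {u : G} (hcu : ∀ g ∈ P, u⁻¹ * (g * u * g⁻¹) ∈ center G) :
    P ≤ normalizer ((cz u : Subgroup G) : Set G) := fun g hg => by
  refine mem_normalizer_iff.mpr fun v => ?_
  have h1 : cz (g * u * g⁻¹) = cz u := by
    ext w
    have hc := hcu g hg
    rw [show g * u * g⁻¹ = u * (u⁻¹ * (g * u * g⁻¹)) by group, mem_cz, mem_cz,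
      ← mul_assoc w, mul_assoc u (u⁻¹ * (g * u * g⁻¹)) w, ← mem_center_iff.mp hc w, ← mul_assoc u w]
    exact mul_left_inj _
  have h2 : g * v * g⁻¹ ∈ cz (g * u * g⁻¹) ↔ v ∈ cz u := by
    rw [cz_conj g u, show g⁻¹ * (g * v * g⁻¹) * g = v by group]
  rw [h1] at h2
  exact h2.symm

theorem prime_dvd_relIndex_center {p : ℕ} [Fact p.Prime] {u : G} (hu : u ∉ center G) (hup : u ^ p ∈ center G) :
    p ∣ (center G).relIndex (zpowers u ⊔ center G) := by
  set L := zpowers u ⊔ center G with hL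
  have h4 : (⟨u, mem_sup_left (mem_zpowers u)⟩ : L) ^ p ∈ (center G).subgroupOf L := hup
  have h5 : orderOf ((⟨u, mem_sup_left (mem_zpowers u)⟩ : L) : L ⧸ (center G).subgroupOf L) = p := by
    refine orderOf_eq_prime ?_ ?_
    · rw [← QuotientGroup.mk_pow]; exact (QuotientGroup.eq_one_iff _).mpr h4
    · exact fun h6 => hu (mem_subgroupOf.mp ((QuotientGroup.eq_one_iff _).mp h6))
  have h7 : p ∣ Nat.card (L ⧸ (center G).subgroupOf L) := h5 ▸ orderOf_dvd_natCard _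
  rwa [← Subgroup.index_eq_card] at h7

namespace Big

theorem cs_pel (B : Big G m n) {p : ℕ} (hp : p.Prime) (hpm : p ∣ m) {x : G} (hx : PE p x)
    (hxz : x ∉ center G) : cs x = m * n :=
  (B.h.of_nc hxz).resolve_left fun e => B.h.not_dvd_n hp hpm (B.hall p hp x hx e)

theorem le_pel (B : Big G m n) {p r : ℕ} (hp : p.Prime) (hpm : p ∣ m) (hr : r.Prime) (hpr : p ≠ r) {x v : G}
    (hx : PE p x) (hxz : x ∉ center G) (hv : v ∈ cz x) (hpv : PE r v) : cz x ≤ cz v :=
  B.h.le_of_mn (B.cs_pel hp hpm hx hxz) hv (hx.coprime hp hr hpr hpv)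

theorem exists_y (B : Big G m n) : ∃ q : ℕ, q.Prime ∧ q ∣ n ∧ ∃ y : G, PE q y ∧ cs y = m := by
  obtain ⟨q, hq, y, hy, cy⟩ := B.h.exists_primary_m
  exact ⟨q, hq, B.hall q hq y hy cy, y, hy, cy⟩

theorem ne_of_dvd (B : Big G m n) {p q : ℕ} (hp : p.Prime) (hpm : p ∣ m) (hqn : q ∣ n) : p ≠ q :=
  fun e => B.h.not_dvd_n hp hpm (e ▸ hqn)

theorem exists_qel (B : Big G m n) {p q : ℕ} (hp : p.Prime) (hpm : p ∣ m) (hq : q.Prime) (hqn : q ∣ n) {y : G}
    (hy : PE q y) (cy : cs y = m) {x : G} (hx : PE p x) (hxz : x ∉ center G) :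
    ∃ b ∈ cz x, PE q b ∧ b ∉ center G := by
  refine exists_pel_outside hq ?_
  rw [Sz.vp_cs (B.cs_pel hp hpm hx hxz), B.h.fq_mn hq hqn]
  by_contra hle
  push Not at hle
  obtain ⟨x', hx', hpx', hx'z⟩ := B.h.exists_nc_pel hp hpm y
  obtain ⟨k, -, hk⟩ := conj_into' hq (center_le_centralizer ({x'} : Set G))
    (hle.trans_eq ((Sz.vp_cs (B.cs_pel hp hpm hpx' hx'z)).trans (B.h.fq_mn hq hqn)).symm)
    (show y ∈ cz x' from mem_cz.mpr (mem_cz.mp hx').symm) hy
  exact B.h.nc_of_cs cy (conj_mem_center hk)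

theorem sqfree (B : Big G m n) {p : ℕ} (hp : p.Prime) (hpm : p ∣ m) : m.factorization p = 1 := by
  haveI := Fact.mk hp
  obtain ⟨q, hq, hqn, y, hy, cy⟩ := B.exists_y
  have hpq := B.ne_of_dvd hp hpm hqn
  have ha : 0 < m.factorization p := hp.factorization_pos_of_dvd (by have := B.h.hm; omega) hpm
  let P : Sylow p G := default
  obtain ⟨u, huP, huz, hup, hcu⟩ := exists_fixed_mod_center P.isPGroup' le_rfl
    (fun g hg x hx => mul_mem (mul_mem hg hx) ((P : Subgroup G).inv_mem hg))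
    (fun hle => by
      have h1 := (vp_mono (p := p) hle).trans_eq (vp_sylow P)
      have := B.h.vp_center_gt hp hpm
      omega)
  have hu : PE p u := pe_of_mem P.isPGroup' huP
  have hle : ∀ v ∈ cz u, PE q v → cz u ≤ cz v := fun v hv hpv => B.le_pel hp hpm hq hpq hu huz hv hpv
  have hcom : ∀ v ∈ cz u, PE q v → ∀ w ∈ cz u, Commute w v := fun v hv hpv w hw => mem_cz.mp (hle v hv hpv hw)
  let V : Subgroup G :=
    { carrier := {v | v ∈ cz u ∧ PE q v}
      one_mem' := ⟨one_mem _, PE.one q⟩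
      mul_mem' := fun {a b} ha hb => ⟨mul_mem ha.1 hb.1, ha.2.mul hb.2 (hcom b hb.1 hb.2 a ha.1)⟩
      inv_mem' := fun {a} ha => ⟨inv_mem ha.1, ha.2.inv⟩ }
  have hPN := norm_cz_of_fixed hcu
  have hPV : (P : Subgroup G) ≤ normalizer (V : Set G) := fun g hg => by
    refine mem_normalizer_iff.mpr fun v => ?_
    show v ∈ cz u ∧ PE q v ↔ g * v * g⁻¹ ∈ cz u ∧ PE q (g * v * g⁻¹)
    rw [← mem_normalizer_iff.mp (hPN hg) v]
    refine and_congr_right fun _ => ⟨fun h => h.conj g, fun h => ?_⟩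
    have := h.conj g⁻¹
    rwa [inv_inv, show g⁻¹ * (g * v * g⁻¹) * g = v by group] at this
  have hVq : IsPGroup q V := by
    rintro ⟨v, hv, k, hk⟩
    exact ⟨k, Subtype.ext (by simpa using hk)⟩
  have hco : (Nat.card V).Coprime p := by
    haveI := Fact.mk hq
    obtain ⟨k, hk⟩ := IsPGroup.iff_card.mp hVq
    rw [hk]
    exact Nat.Coprime.pow_left k ((Nat.coprime_primes hq hp).mpr (Ne.symm hpq))
  have hVz : ¬ V ≤ center G := fun hle' => by
    obtain ⟨b, hb, hpb, hbz⟩ := B.exists_qel hp hpm hq hqn hy cy hu huz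
    exact hbz (hle' ⟨hb, hpb⟩)
  set X := (P : Subgroup G) ⊓ cz u with hX
  have hvX : vp p X ≤ m.factorization p :=
    (vp_inf_of_normalizes P hPN).trans_eq (B.h.vp_nc hp hpm huz)
  have hrel : (cz u).relIndex (P : Subgroup G) ∣ p := by
    refine relIndex_dvd_prime (V := V) hcu hup (fun a ha w hw => hcom w hw.1 hw.2 a ha.1) hco hVz hPV ?_ ?_
    · intro g hg v hv hvz hgv
      have hXv : X ≤ (P : Subgroup G) ⊓ cz v := inf_le_inf_left _ (hle v hv.1 hv.2)
      have h1 := relIndex_eq_pow (p := p) (P.isPGroup'.to_le inf_le_left) hXv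
      have h2 : m.factorization p ≤ vp p ((P : Subgroup G) ⊓ cz v) :=
        (B.h.vp_nc hp hpm hvz).ge.trans (vp_mono inf_le_right)
      rw [show vp p X - vp p ((P : Subgroup G) ⊓ cz v) = 0 by omega, pow_zero] at h1
      exact mem_cz.mp (relIndex_eq_one.mp h1 (show g ∈ (P : Subgroup G) ⊓ cz v from ⟨hg, mem_cz.mpr hgv.eq⟩)).2
    · intro g _ hgu v hv
      exact mem_cz.mp (hle v hv.1 hv.2 (mem_cz.mpr hgu.eq))
  rw [← inf_relIndex_left, relIndex_eq_pow P.isPGroup' inf_le_left, vp_sylow, Nat.sub_zero] at hrel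
  have h1 : vp p X ≤ 1 := (Nat.pow_le_pow_iff_right hp.one_lt).mp
    ((Nat.le_of_dvd hp.pos hrel).trans_eq (pow_one p).symm)
  have h2 : m.factorization p ≤ vp p X := (B.h.vp_nc hp hpm huz).ge.trans (vp_mono inf_le_right)
  omega

theorem vp_one (B : Big G m n) {p : ℕ} (hp : p.Prime) (hpm : p ∣ m) {g : G} (hg : g ∉ center G) :
    vp p (cz g) = 1 := by rw [B.h.vp_nc hp hpm hg, B.sqfree hp hpm]

theorem eq_prime (B : Big G m n) {p : ℕ} (hp : p.Prime) (hpm : p ∣ m)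
    (hu : ∀ r : ℕ, r.Prime → r ∣ m → r = p) : m = p := by
  have h1 : m = p ^ m.primeFactorsList.length :=
    Nat.eq_prime_pow_of_unique_prime_dvd (by have := B.h.hm; omega) fun {d} hd hdm => hu d hd hdm
  have h2 := B.sqfree hp hpm
  rw [h1, hp.factorization_pow, Finsupp.single_eq_same] at h2
  rw [h1, h2, pow_one]

/-- For prime `m`, the `m`-elements of `C(w)`, `w` of class size `m`, lie in its core. -/
theorem core (B : Big G m n) (hm : m.Prime) {w : G} (cw : cs w = m) :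
    vp m (cz w).normalCore ≤ 1 ∧ ∀ u ∈ cz w, PE m u → u ∈ (cz w).normalCore := by
  haveI := Fact.mk hm
  have hwz := B.h.nc_of_cs cw
  have h1 : vp m (cz w).normalCore ≤ 1 := by
    have hd : (cz w).normalCore.index ∣ m.factorial := by
      rw [normalCore_eq_ker, index_ker]
      refine (card_subgroup_dvd_card _).trans (dvd_of_eq ?_)
      rw [Nat.card_perm, ← index_eq_card]
      exact congrArg Nat.factorial cw
    unfold vp
    refine ((Nat.factorization_le_iff_dvd index_ne_zero_of_finite (Nat.factorial_pos m).ne').mpr hd m).trans ?_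
    rw [← Nat.mul_factorial_pred hm.ne_zero, Nat.factorization_mul hm.ne_zero (Nat.factorial_pos _).ne',
      Finsupp.add_apply, hm.factorization_self,
      Nat.factorization_eq_zero_of_not_dvd fun hd' => by
        have := (hm.dvd_factorial).mp hd'
        have := hm.pos
        omega]
  refine ⟨h1, fun u hu hpu => ?_⟩
  obtain ⟨k, -, hku⟩ := conj_into' hm (normalCore_le (cz w))
    (h1.trans (B.vp_one hm dvd_rfl hwz).ge) hu hpu
  have := (inferInstance : (cz w).normalCore.Normal).conj_mem _ hku k⁻¹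
  simpa [mul_assoc] using this

theorem center_two (B : Big G m n) (hm : m.Prime) : vp m (center G) ≤ 2 := by
  haveI := Fact.mk hm
  obtain ⟨q, hq, hqn, y, hy, cy⟩ := B.exists_y
  have hmq := B.ne_of_dvd hm dvd_rfl hqn
  obtain ⟨hK, hKmem⟩ := B.core hm cy
  obtain ⟨g, -, hg, hgH⟩ := exists_pel_outside hm (L := cz y) (K := ⊤) (by
    rw [vp_top', B.vp_one hm dvd_rfl (B.h.nc_of_cs cy)]; exact Nat.one_pos)
  have hgz : g ∉ center G := fun h => hgH (center_le_centralizer _ h)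
  obtain ⟨P, hP⟩ := exists_sylow_inf (p := m) (cz g)
  set K := (cz y).normalCore with hKdef
  have hA : vp m ((P : Subgroup G) ⊓ cz g) ≤ 1 := hP.trans_eq (B.vp_one hm dvd_rfl hgz)
  have hB : vp m ((P : Subgroup G) ⊓ K) ≤ 1 :=
    (vp_inf_of_normalizes P (by rw [normalizer_eq_top_iff.mpr inferInstance]; exact le_top)).trans hK
  have hle : (P : Subgroup G) ⊓ cz g ⊓ ((P : Subgroup G) ⊓ K) ≤ center G := by
    rintro x ⟨⟨hxP, hxg⟩, -, hxK⟩
    by_contra hxz
    have hxH : x ∈ cz y := normalCore_le _ hxK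
    have hpx := pe_of_mem P.isPGroup' hxP
    exact hgH (B.le_pel hm dvd_rfl hq hmq hpx hxz (mem_cz.mpr (mem_cz.mp hxH).symm) hy
      (mem_cz.mpr (mem_cz.mp hxg).symm))
  refine (vp_mono hle).trans ?_
  have h1 := relIndex_inf_le (H := (P : Subgroup G) ⊓ cz g) (K := (P : Subgroup G) ⊓ K) (L := (P : Subgroup G))
  rw [relIndex_eq_pow P.isPGroup' inf_le_left, relIndex_eq_pow P.isPGroup' inf_le_left,
    relIndex_eq_pow P.isPGroup' (inf_le_left.trans inf_le_left), vp_sylow, Nat.sub_zero, Nat.sub_zero,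
    Nat.sub_zero, ← pow_add] at h1
  have := (Nat.pow_le_pow_iff_right hm.one_lt).mp h1
  omega

theorem abelian (B : Big G m n) {p : ℕ} (hp : p.Prime) (hpm : p ∣ m) {x : G} (hx : PE p x)
    (hxz : x ∉ center G) : ∀ v ∈ cz x, ∀ w ∈ cz x, Commute v w := by
  haveI := Fact.mk hp
  suffices hprim : ∀ r : ℕ, r.Prime → ∀ u ∈ cz x, PE r u → cz x ≤ cz u from fun v hv w hw =>
    mem_cz.mp (le_cz_of_primes (K := cz x) (z := w)
      (fun r hr u hu hpu => (mem_cz.mp (hprim r hr u hu hpu hw) : Commute w u).symm) hv)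
  intro r hr u hu hpu
  by_cases hrp : p ≠ r
  · exact B.le_pel hp hpm hr hrp hx hxz hu hpu
  push Not at hrp
  subst hrp
  by_cases htwo : ∃ p₂ : ℕ, p₂.Prime ∧ p₂ ∣ m ∧ p₂ ≠ p
  · obtain ⟨p₂, hp₂, hp₂m, hne⟩ := htwo
    obtain ⟨x₂, hx₂, hpx₂, hx₂z⟩ := B.h.exists_nc_pel hp₂ hp₂m x
    have h1 : cz x ≤ cz x₂ := B.le_pel hp hpm hp₂ (Ne.symm hne) hx hxz hx₂ hpx₂
    exact h1.trans (B.le_pel hp₂ hp₂m hp hne hpx₂ hx₂z (h1 hu) hpu)
  push Not at htwo
  obtain rfl : m = p := B.eq_prime hp hpm htwo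
  obtain ⟨P, hP⟩ := exists_sylow_inf (p := m) (cz x)
  set X := (P : Subgroup G) ⊓ cz x with hX
  set Z := (P : Subgroup G) ⊓ center G with hZ
  have hZX : Z ≤ X := inf_le_inf_left _ (center_le_centralizer _)
  have hvZ : vp m Z ≤ 2 :=
    (vp_inf_of_normalizes P (by rw [normalizer_eq_top_iff.mpr inferInstance]; exact le_top)).trans (B.center_two hp)
  have hvX : vp m X ≤ 1 := hP.trans_eq (B.vp_one hp hpm hxz)
  have h1X : 1 ≤ vp m X := (B.vp_one hp hpm hxz).ge.trans (vp_mono inf_le_right)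
  have hrel : Z.relIndex X ≤ m := by
    rw [relIndex_eq_pow (P.isPGroup'.to_le inf_le_left) hZX]
    exact le_trans (Nat.pow_le_pow_right hp.pos (show vp m Z - vp m X ≤ 1 by omega)) (pow_one m).le
  -- `X` is abelian
  have hXab : ∀ a ∈ X, ∀ b ∈ X, Commute a b := by
    intro a ha b hb
    by_cases haz : a ∈ center G
    · exact (mem_center_iff.mp haz b).symm
    set M := X ⊓ cz a with hM
    have hZM : Z ≤ M := le_inf hZX (inf_le_right.trans (center_le_centralizer _))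
    suffices hXM : X ≤ M from (mem_cz.mp (hXM hb).2 : Commute b a).symm
    have hMp := P.isPGroup'.to_le (inf_le_left.trans inf_le_left : M ≤ (P : Subgroup G))
    have h3 : Z.relIndex M ≠ 1 := fun e => haz (relIndex_eq_one.mp e ⟨ha, mem_cz.mpr rfl⟩).2
    rw [relIndex_eq_pow hMp hZM] at h3
    have h4 : vp m Z - vp m M ≠ 0 := fun e => h3 (by rw [e, pow_zero])
    refine relIndex_eq_one.mp ?_
    rw [relIndex_eq_pow (P.isPGroup'.to_le inf_le_left) (inf_le_left : M ≤ X),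
      show vp m M - vp m X = 0 by omega, pow_zero]
  have hXle : ∀ a ∈ X, cz x ≤ cz a := fun a ha => le_of_vp fun r hr => by
    rcases eq_or_ne r m with rfl | hrm
    · exact (vp_mono (le_inf (fun b hb => mem_cz.mpr (hXab b hb a ha).eq) inf_le_right)).trans hP
    refine vp_le_of_forall hr fun b hb hpb => ⟨mem_cz.mpr ?_, hb⟩
    exact (mem_cz.mp (B.le_pel hp hpm hr (Ne.symm hrm) hx hxz hb hpb ha.2)).symm
  obtain ⟨k, hk, hku⟩ := conj_into' hp inf_le_right hP hu hpu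
  have h1 : Commute k (k * u * k⁻¹) := mem_cz.mp (hXle _ hku hk)
  have h2 : k * u * k⁻¹ = u := by
    have h3 := h1.eq
    calc k * u * k⁻¹ = k⁻¹ * (k * (k * u * k⁻¹)) := by group
      _ = k⁻¹ * ((k * u * k⁻¹) * k) := by rw [h3]
      _ = u := by group
  rw [← h2]
  exact hXle _ hku

theorem eq_cz (B : Big G m n) {p : ℕ} (hp : p.Prime) (hpm : p ∣ m) {x c : G} (hx : PE p x)
    (hxz : x ∉ center G) (hc : c ∈ cz x) (hcz : c ∉ center G) {r : ℕ} (hr : r.Prime) (hrm : r ∣ m)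
    (hpc : PE r c) : cz c = cz x :=
  (eq_of_le_of_index (show cz x ≤ cz c from fun v hv => mem_cz.mpr (B.abelian hp hpm hx hxz v hv c hc).eq)
    (by change cs x ≤ cs c; rw [B.cs_pel hp hpm hx hxz, B.cs_pel hr hrm hpc hcz])).symm

/-- Two primes dividing `m`, with small centre. -/
theorem false_of_two (B : Big G m n) {p p₂ : ℕ} (hp : p.Prime) (hpm : p ∣ m) (hp₂ : p₂.Prime) (hp₂m : p₂ ∣ m)
    (hlt : p₂ < p) (hv : vp p (center G) = 2) (hv₂ : vp p₂ (center G) = 2) : False := by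
  haveI := Fact.mk hp
  haveI := Fact.mk hp₂
  obtain ⟨x, -, hx, hxz⟩ := B.h.exists_nc_pel hp hpm (1 : G)
  obtain ⟨x₂, hx₂, hpx₂, hx₂z⟩ := B.h.exists_nc_pel hp₂ hp₂m x
  obtain ⟨u, hu₀, huz, hup, -⟩ := exists_fixed_mod_center (isPGroup_zpowers hpx₂) le_rfl
    (fun g hg v hv => mul_mem (mul_mem hg hv) ((zpowers x₂).inv_mem hg))
    (fun hle => hx₂z (hle (mem_zpowers x₂)))
  have hu : u ∈ cz x := zpowers_le.mpr hx₂ hu₀
  have hpu : PE p₂ u := pe_of_zpowers hpx₂ hu₀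
  have hzu : cz u = cz x := B.eq_cz hp hpm hx hxz hu huz hp₂ hp₂m hpu
  set L := zpowers u ⊔ center G with hL
  have hLD : L ≤ cz x := sup_le (zpowers_le.mpr hu) (center_le_centralizer _)
  have hgen : ∀ v ∈ cz x, PE p₂ v → v ∈ L := by
    intro v hv hpv
    have h1 : vp p₂ (center G) = ((center G).relIndex L).factorization p₂ + vp p₂ L := vp_add le_sup_right
    have h2 := (Nat.Prime.dvd_iff_one_le_factorization hp₂
      (index_ne_zero_of_finite (H := (center G).subgroupOf L))).mp (prime_dvd_relIndex_center huz hup)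
    change 1 ≤ ((center G).relIndex L).factorization p₂ at h2
    have h3 := B.vp_one hp₂ hp₂m hxz
    obtain ⟨k, hk, hkv⟩ := conj_into' hp₂ hLD (by omega) hv hpv
    rwa [(B.abelian hp hpm hx hxz k hk v hv).eq, mul_inv_cancel_right] at hkv
  obtain ⟨P, hP⟩ := exists_sylow_inf (p := p) (cz x)
  set X := (P : Subgroup G) ⊓ cz x with hX
  have hvX : vp p X = 1 := le_antisymm (hP.trans_eq (B.vp_one hp hpm hxz))
    ((B.vp_one hp hpm hxz).ge.trans (vp_mono inf_le_right))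
  have hXne : X ≠ (P : Subgroup G) := fun h1 => by rw [h1, vp_sylow] at hvX; omega
  obtain ⟨g, ⟨hgP, hgN⟩, hgX⟩ := SetLike.exists_of_lt (lt_norm P.isPGroup' inf_le_left hXne)
  obtain ⟨x₀, hx₀, hx₀z⟩ := SetLike.not_le_iff_exists.mp (show ¬ X ≤ center G from fun hle => by
    have := vp_mono (p := p) hle; omega)
  have hpx₀ := pe_of_mem P.isPGroup' hx₀.1
  have hgx₀ := (mem_normalizer_iff.mp hgN x₀).mp hx₀
  have hgu : g * u * g⁻¹ ∈ cz x := by
    rw [← B.eq_cz hp hpm hx hxz hgx₀.2 (conj_not_center hx₀z g) hp hpm (hpx₀.conj g), cz_conj g x₀,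
      show g⁻¹ * (g * u * g⁻¹) * g = u by group, B.eq_cz hp hpm hx hxz hx₀.2 hx₀z hp hpm hpx₀]
    exact hu
  obtain ⟨w, hw, z, hz, e⟩ := mem_sup_of_normal_right.mp (hgen _ hgu (hpu.conj g))
  obtain ⟨i, rfl⟩ := mem_zpowers_iff.mp hw
  let π : G →* G ⧸ center G := QuotientGroup.mk' _
  have hπ : ∀ v : G, π v = 1 ↔ v ∈ center G := fun v => QuotientGroup.eq_one_iff v
  have hiu : π g * π u * (π g)⁻¹ = π u ^ i := by
    rw [← map_inv, ← map_mul, ← map_mul, ← e, map_mul, map_zpow, (hπ z).mpr hz, mul_one]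
  have hiter : ∀ j : ℕ, π g ^ j * π u * (π g ^ j)⁻¹ = π u ^ (i ^ j) := by
    intro j
    induction j with
    | zero => simp
    | succ j ih =>
      calc π g ^ (j + 1) * π u * (π g ^ (j + 1))⁻¹ = π g * (π g ^ j * π u * (π g ^ j)⁻¹) * (π g)⁻¹ := by
            rw [pow_succ']; group
        _ = _ := by rw [ih, ← conj_zpow, hiu, ← zpow_mul, pow_succ']
  have hordu : orderOf (π u) = p₂ :=
    orderOf_eq_prime (by rw [← map_pow]; exact (hπ _).mpr hup) fun h1 => huz ((hπ u).mp h1)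
  obtain ⟨k, hk⟩ := pe_of_mem P.isPGroup' hgP
  have h1 := hiter (p ^ k)
  rw [← map_pow, hk, map_one, one_mul, inv_one, mul_one] at h1
  nth_rw 1 [← zpow_one (π u)] at h1
  have h2 : ((i : ZMod p₂)) ^ (p ^ k) = 1 := by
    have h3 : (p₂ : ℤ) ∣ i ^ (p ^ k) - 1 := hordu ▸ orderOf_dvd_sub_iff_zpow_eq_zpow.mpr h1.symm
    have h4 := ((ZMod.intCast_eq_intCast_iff_dvd_sub 1 (i ^ (p ^ k)) p₂).mpr h3).symm
    push_cast at h4
    exact h4
  have hi0 : (i : ZMod p₂) ≠ 0 := fun h0 => by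
    rw [h0, zero_pow (pow_ne_zero _ hp.ne_zero)] at h2; exact zero_ne_one h2
  have hi1 : (i : ZMod p₂) = 1 := by
    have h3 : Nat.gcd (p ^ k) (p₂ - 1) = 1 := Nat.Coprime.pow_left k (hp.coprime_iff_not_dvd.mpr fun hd => by
      have := hp₂.two_le
      have := Nat.le_of_dvd (by omega) hd
      omega)
    have h4 := pow_gcd_eq_one.mpr ⟨h2, ZMod.pow_card_sub_one_eq_one hi0⟩
    rwa [h3, pow_one] at h4
  have h5 : π u ^ i = π u := by
    have h6 : (p₂ : ℤ) ∣ i - 1 := (ZMod.intCast_eq_intCast_iff_dvd_sub 1 i p₂).mp (by rw [hi1]; simp)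
    nth_rw 2 [← zpow_one (π u)]
    exact orderOf_dvd_sub_iff_zpow_eq_zpow.mp (hordu.symm ▸ h6)
  have h7 : u⁻¹ * (g * u * g⁻¹) ∈ center G := (hπ _).mp (by
    rw [map_mul, map_mul, map_mul, map_inv, map_inv, hiu, h5, inv_mul_cancel])
  have h8 := fixed_of_central_comm hp₂ hp hlt.ne (pe_of_mem P.isPGroup' hgP) hpu h7
  exact hgX ⟨hgP, hzu ▸ mem_cz.mpr h8.eq⟩

/-- `m` prime and two elements of size `m` whose centralisers share only central `m`-elements. -/
theorem false_of_prime (B : Big G m n) (hm : m.Prime) {q : ℕ} (hq : q.Prime) (hqn : q ∣ n) {y g : G}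
    (hy : PE q y) (cy : cs y = m) (hgy : Commute g y) (hg : PE q g) (cg : cs g = m)
    (hB : ∀ u ∈ cz y ⊓ cz g, PE m u → u ∈ center G) : False := by
  haveI := Fact.mk hm
  have hmq := B.ne_of_dvd hm dvd_rfl hqn
  have hvz : y * g ∉ center G := fun hvz => by
    obtain ⟨x, hx, hpx, hxz⟩ := B.h.exists_nc_pel hm dvd_rfl y
    refine hxz (hB x ⟨hx, mem_cz.mpr ?_⟩ hpx)
    have h1 : Commute x y⁻¹ := Commute.inv_right (mem_cz.mp hx)
    have h2 := h1.mul_right (show Commute x (y * g) from mem_center_iff.mp hvz x)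
    rw [inv_mul_cancel_left] at h2
    exact h2.eq
  obtain ⟨x, hx, hpx, hxz⟩ := B.h.exists_nc_pel hm dvd_rfl (y * g)
  have hxH : ¬ Commute x y := fun hc => by
    refine hxz (hB x ⟨mem_cz.mpr hc.eq, mem_cz.mpr ?_⟩ hpx)
    have h2 := hc.inv_right.mul_right (show Commute x (y * g) from mem_cz.mp hx)
    rw [inv_mul_cancel_left] at h2
    exact h2.eq
  set e := y⁻¹ * (x * y * x⁻¹) with he
  have he' : e = g * (x * g * x⁻¹)⁻¹ := by
    have h1 : x * y * x⁻¹ = y * g * (x * g * x⁻¹)⁻¹ := by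
      calc x * y * x⁻¹ = x * (y * g) * x⁻¹ * (x * g * x⁻¹)⁻¹ := by group
        _ = _ := by rw [(show Commute x (y * g) from mem_cz.mp hx).eq, mul_inv_cancel_right]
    rw [he, h1]; group
  obtain ⟨hK, hKmem⟩ := B.core hm cy
  obtain ⟨-, hKmem'⟩ := B.core hm cg
  set K := (cz y).normalCore with hKdef
  set K' := (cz g).normalCore with hKdef'
  have hconj : ∀ (w v : G), v ∈ (cz w).normalCore → Commute v w ∧ Commute v (x * w * x⁻¹) := fun w v hv => by
    refine ⟨mem_cz.mp (normalCore_le _ hv), ?_⟩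
    have h1 : x⁻¹ * v * x⁻¹⁻¹ ∈ cz w :=
      normalCore_le _ ((inferInstance : (cz w).normalCore.Normal).conj_mem v hv x⁻¹)
    have h2 := (commute_conj_iff (w := x)).mpr (mem_cz.mp h1 : Commute _ w)
    rwa [show x * (x⁻¹ * v * x⁻¹⁻¹) * x⁻¹ = v by group] at h2
  have hle : K ⊔ K' ≤ cz e := by
    refine sup_le (fun v hv => mem_cz.mpr ?_) (fun v hv => mem_cz.mpr ?_)
    · obtain ⟨h1, h2⟩ := hconj y v hv
      exact (h1.inv_right.mul_right h2).eq
    · obtain ⟨h1, h2⟩ := hconj g v hv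
      rw [he']
      exact (h1.mul_right h2.inv_right).eq
  have h0 : vp m (K ⊔ K') = 0 := by
    by_contra hne
    obtain ⟨v, hv, hpv, hvz'⟩ := B.h.exists_nc_pel hm dvd_rfl g
    obtain ⟨k, -, hk⟩ := conj_into' hm (le_sup_left : K ≤ K ⊔ K') (by omega)
      (mem_sup_right (hKmem' v hv hpv) : v ∈ K ⊔ K') hpv
    have hvK : v ∈ K := by
      have := (inferInstance : (cz y).normalCore.Normal).conj_mem _ hk k⁻¹
      simpa [mul_assoc] using this
    exact hvz' (hB v ⟨normalCore_le _ hvK, hv⟩ hpv)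
  have hez : e ∈ center G := B.h.central_of_sylow dvd_rfl (Nat.le_zero.mp ((vp_mono hle).trans_eq h0))
  exact hxH (fixed_of_central_comm hq hm hmq.symm hpx hy hez)

theorem false_of_caseB (B : Big G m n) {q : ℕ} (hq : q.Prime) (hqn : q ∣ n) {y g : G}
    (hy : PE q y) (cy : cs y = m) (hgy : Commute g y) (hg : PE q g) (cg : cs g = m)
    (hB : ∀ p : ℕ, p.Prime → p ∣ m → ∀ u ∈ cz y ⊓ cz g, PE p u → u ∈ center G) : False := by
  have hm0 : m ≠ 0 := by have := B.h.hm; omega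
  set I := cz y ⊓ cz g with hI
  set r := I.relIndex (cz y) with hr
  have hrm : r ≤ m := by
    have h1 : r * cs y ≤ m * m := by
      have h2 : r * cs y = I.index := relIndex_mul_index inf_le_left
      rw [h2]
      refine index_inf_le.trans (le_of_eq ?_)
      change cs y * cs g = m * m
      rw [cy, cg]
    rw [cy] at h1
    exact Nat.le_of_mul_le_mul_right h1 (Nat.pos_of_ne_zero hm0)
  have hr0 : r ≠ 0 := index_ne_zero_of_finite (H := I.subgroupOf (cz y))
  have hkey : ∀ p : ℕ, p.Prime → p ∣ m →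
      vp p (center G) ≤ r.factorization p + 1 ∧ 1 ≤ r.factorization p := by
    intro p hp hpm
    have h1 : vp p (center G) ≤ vp p I := vp_le_of_forall hp (hB p hp hpm)
    have h2 : vp p I = r.factorization p + vp p (cz y) := vp_add inf_le_left
    have h3 := B.vp_one hp hpm (B.h.nc_of_cs cy)
    have h4 := B.h.vp_center_gt hp hpm
    rw [B.sqfree hp hpm] at h4
    omega
  have hmr : m ∣ r := (Nat.factorization_le_iff_dvd hm0 hr0).mp fun p => by
    by_cases hpm : p.Prime ∧ p ∣ m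
    · rw [B.sqfree hpm.1 hpm.2]; exact (hkey p hpm.1 hpm.2).2
    · rcases not_and_or.mp hpm with h | h
      · rw [Nat.factorization_eq_zero_of_not_prime _ h]; exact Nat.zero_le _
      · rw [Nat.factorization_eq_zero_of_not_dvd h]; exact Nat.zero_le _
  have hreq : r = m := le_antisymm hrm (Nat.le_of_dvd (Nat.pos_of_ne_zero hr0) hmr)
  have htwo : ∀ p : ℕ, p.Prime → p ∣ m → vp p (center G) = 2 := fun p hp hpm => by
    have h1 := (hkey p hp hpm).1
    rw [hreq, B.sqfree hp hpm] at h1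
    have h2 := B.h.vp_center_gt hp hpm
    rw [B.sqfree hp hpm] at h2
    omega
  obtain ⟨p, hp, hpm⟩ := Nat.exists_prime_and_dvd (n := m) (by have := B.h.hm; omega)
  by_cases hex : ∃ p₂ : ℕ, p₂.Prime ∧ p₂ ∣ m ∧ p₂ ≠ p
  · obtain ⟨p₂, hp₂, hp₂m, hne⟩ := hex
    rcases lt_or_gt_of_ne hne with h | h
    · exact B.false_of_two hp hpm hp₂ hp₂m h (htwo p hp hpm) (htwo p₂ hp₂ hp₂m)
    · exact B.false_of_two hp₂ hp₂m hp hpm h (htwo p₂ hp₂ hp₂m) (htwo p hp hpm)
  push Not at hex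
  obtain rfl : m = p := B.eq_prime hp hpm hex
  exact B.false_of_prime hp hq hqn hy cy hgy hg cg (hB m hp hpm)

theorem false (B : Big G m n) : False := by
  obtain ⟨q, hq, hqn, y, hy, cy⟩ := B.exists_y
  haveI := Fact.mk hq
  obtain ⟨p, hp, hpm⟩ := Nat.exists_prime_and_dvd (n := m) (by have := B.h.hm; omega)
  obtain ⟨x, hxH, hx, hxz⟩ := B.h.exists_nc_pel hp hpm y
  have hDH : cz x ≤ cz y :=
    B.le_pel hp hpm hq (B.ne_of_dvd hp hpm hqn) hx hxz (mem_cz.mpr (mem_cz.mp hxH).symm) hy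
  have hHD : ¬ cz y ≤ cz x := fun hle => by
    have h1 : cs x ∣ cs y := index_dvd_of_le hle
    rw [B.cs_pel hp hpm hx hxz, cy] at h1
    exact B.h.n_not_dvd_m ((dvd_mul_left n m).trans h1)
  refine hHD (subgroupOf_eq_top.mp (CfsgLib.eq_top_of_conj_cover ((cz x).subgroupOf (cz y)) fun h => ?_))
  -- elements commuting with a non-central `p'`-element of `C(y)`
  have hC1 : ∀ p' : ℕ, p'.Prime → p' ∣ m → ∀ z ∈ cz y, PE p' z → z ∉ center G → Commute (h : G) z →
      ∃ k : cz y, k * h * k⁻¹ ∈ (cz x).subgroupOf (cz y) := by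
    intro p' hp' hp'm z hz hpz hzz hhz
    haveI := Fact.mk hp'
    have h1 := B.vp_one hp' hp'm (B.h.nc_of_cs cy)
    have h2 := B.vp_one hp' hp'm hxz
    obtain ⟨k, hk, hkz⟩ := conj_into' hp' hDH (by omega) hz hpz
    refine ⟨⟨k, hk⟩, mem_subgroupOf.mpr ?_⟩
    rw [← B.eq_cz hp hpm hx hxz hkz (conj_not_center hzz k) hp' hp'm (hpz.conj k)]
    exact mem_cz.mpr (commute_conj_iff.mpr hhz).eq
  obtain ⟨g, s, hgs, hg, hs, hgq, hso⟩ := CycSyl.split (p := q) (h : G)
  have hgH : g ∈ cz y := zpowers_le.mpr h.2 hg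
  have hsH : s ∈ cz y := zpowers_le.mpr h.2 hs
  have hhs : Commute (h : G) s := by
    obtain ⟨i, rfl⟩ := hs; exact (Commute.refl _).zpow_right i
  have hhg : Commute (h : G) g := by
    obtain ⟨i, rfl⟩ := hg; exact (Commute.refl _).zpow_right i
  by_cases hsz : s ∈ Zh y
  swap
  · obtain ⟨r, hr, z, hz, hpz, hzz⟩ := exists_prim hsz
    have hzH : z ∈ cz y := zpowers_le.mpr hsH hz
    have hhz : Commute (h : G) z := by
      obtain ⟨i, rfl⟩ := hz; exact hhs.zpow_right i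
    by_cases hrm : r ∣ m
    · exact hC1 r hr hrm z hzH hpz (fun e => hzz (center_le_zh y e)) hhz
    have hrq : r ≠ q := fun e => hzz (by
      subst e
      rw [hpz.eq_one (hso.coprime_dvd_left (orderOf_dvd_of_mem_zpowers hz))]
      exact one_mem _)
    have hyz : Commute z y := mem_cz.mp hzH
    rcases B.h.relIndex_cases cy hzH (hy.coprime hq hr hrq.symm hpz) with h1 | h1
    · exact absurd (mem_zh.mpr ⟨hzH, fun v hv => mem_cz.mp (relIndex_eq_one.mp h1 hv)⟩) hzz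
    have hidx : (cz y ⊓ cz z).index = m * n := by
      rw [← relIndex_mul_index (inf_le_left : cz y ⊓ cz z ≤ cz y), inf_relIndex_left, h1]
      change n * cs y = m * n
      rw [cy, mul_comm]
    obtain ⟨x', hx', hpx', hx'z⟩ := exists_pel_outside hp (L := center G) (K := cz y ⊓ cz z) (by
      refine lt_of_eq_of_lt ?_ (B.h.vp_center_gt hp hpm)
      unfold vp
      rw [hidx, B.h.fp_mn hp hpm])
    have h2 : cz x' = cz y ⊓ cz z := eq_of_le_of_index
      (le_inf (B.le_pel hp hpm hq (B.ne_of_dvd hp hpm hqn) hpx' hx'z (mem_cz.mpr (mem_cz.mp hx'.1).symm) hy)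
        (B.le_pel hp hpm hr (fun e => hrm (e ▸ hpm)) hpx' hx'z (mem_cz.mpr (mem_cz.mp hx'.2).symm) hpz))
      (by rw [hidx]; exact (B.cs_pel hp hpm hpx' hx'z).le)
    have h3 : (h : G) ∈ cz x' := h2 ▸ (show (h : G) ∈ cz y ⊓ cz z from ⟨h.2, mem_cz.mpr hhz.eq⟩)
    exact hC1 p hp hpm x' hx'.1 hpx' hx'z (mem_cz.mp h3)
  have hsall : ∀ v ∈ cz y, Commute v s := (mem_zh.mp hsz).2
  by_cases hgz : g ∈ Zh y
  · refine hC1 p hp hpm x hxH hx hxz ?_
    rw [← hgs]
    exact (((mem_zh.mp hgz).2 x hxH).symm).mul_left (hsall x hxH).symm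
  have hgnc : g ∉ center G := fun e => hgz (center_le_zh y e)
  rcases B.h.of_nc hgnc with cg | cg
  swap
  · obtain ⟨x', hx', hpx', hx'z⟩ := B.h.exists_nc_pel hp hpm g
    have hle := B.h.le_of_mn cg hx' (PE.coprime hq hp (B.ne_of_dvd hp hpm hqn).symm hgq hpx')
    have hyg : y ∈ cz g := mem_cz.mpr (mem_cz.mp hgH).symm
    exact hC1 p hp hpm x' (mem_cz.mpr (mem_cz.mp (hle hyg)).symm) hpx' hx'z
      (mem_cz.mp (hle (mem_cz.mpr hhg.eq)))
  by_cases hB : ∀ p : ℕ, p.Prime → p ∣ m → ∀ u ∈ cz y ⊓ cz g, PE p u → u ∈ center G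
  · exact (B.false_of_caseB hq hqn hy cy (mem_cz.mp hgH) hgq cg hB).elim
  push Not at hB
  obtain ⟨p', hp', hp'm, z, hz, hpz, hzz⟩ := hB
  refine hC1 p' hp' hp'm z hz.1 hpz hzz ?_
  rw [← hgs]
  exact Commute.mul_left (mem_cz.mp hz.2).symm (hsall z hz.1).symm

end Big

theorem TH.exists_ab (h : TH G m n) : ∃ y, Ab G m n y := by
  by_cases hall : ∀ s : ℕ, s.Prime → ∀ a : G, PE s a → cs a = m → s ∣ n
  · exact (Big.false ⟨h, hall⟩).elim
  push Not at hall
  obtain ⟨s, hs, a, ha, ca, hsn⟩ := hall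
  exact h.exists_ab_of_not_dvd hs ha ca hsn

end CfsgLib.ConjTypeCop
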