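import Cfsg.Agent.Lib.ConjTypeCop.Abelian

/-!
Class sizes `1, m, mn`: a primary element of size `m` for a prime not dividing `n` gives an abelian centraliser.
-/

set_option autoImplicit false

namespace CfsgLib.ConjTypeCop

open Subgroup CfsgLib.CopClass CfsgLib.ConjTypeNM

universe u
variable {G : Type u} [Group G] [Finite G] {m n : ℕ}

/-- A subgroup containing a Sylow subgroup of `K` for each prime contains `K`. -/
theorem le_of_vp {L K : Subgroup G} (h : ∀ r : ℕ, r.Prime → vp r (L ⊓ K) ≤ vp r K) : K ≤ L := by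
  refine relIndex_eq_one.mp ?_
  by_contra hne
  obtain ⟨r, hr, hd⟩ := Nat.exists_prime_and_dvd hne
  rw [← inf_relIndex_right] at hd
  exact not_dvd_relIndex hr inf_le_right (h r hr) hd

theorem le_cz_of_primes {K : Subgroup G} {z : G}
    (h : ∀ r : ℕ, r.Prime → ∀ u ∈ K, PE r u → Commute u z) : K ≤ cz z :=
  le_of_vp fun r hr => vp_le_of_forall hr fun u hu hpu => ⟨mem_cz.mpr (h r hr u hu hpu).eq, hu⟩

/-- A subgroup generated by its `r`-elements up to index: primary elements suffice. -/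
theorem normal_of_forall_vp {H : Subgroup G}
    (h : ∀ r : ℕ, r.Prime → vp r (normalizer (H : Set G)) = 0) : H.Normal := by
  rw [← normalizer_eq_top_iff, ← index_eq_one]
  by_contra hne
  obtain ⟨r, hr, hd⟩ := Nat.exists_prime_and_dvd hne
  have := hr.factorization_pos_of_dvd index_ne_zero_of_finite hd
  have h0 := h r hr
  unfold vp at h0
  omega

theorem cz_conj_eq (k a : G) : cz (k * a * k⁻¹) = (cz a).map (MulAut.conj k).toMonoidHom := by
  ext x
  rw [cz_conj]
  constructor
  · intro h; exact ⟨_, h, by simp [mul_assoc]⟩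
  · rintro ⟨v, hv, rfl⟩; simpa [mul_assoc] using hv

/-- Conjugate centralisers have normalisers of the same index. -/
theorem index_normalizer_conj (k a : G) :
    (normalizer ((cz (k * a * k⁻¹) : Subgroup G) : Set G)).index = (normalizer ((cz a : Subgroup G) : Set G)).index := by
  have h1 := map_equiv_normalizer_eq (cz a) (MulAut.conj k)
  rw [cz_conj_eq, ← h1]
  exact Subgroup.index_map_of_bijective (MulAut.conj k).bijective _

/-- Only `p`-elements `g` with `C(g)` conjugate to `C(z)` for the primes `p ∣ m` is impossible. -/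
theorem TH.false_of_pel_conj (h : TH G m n) {z : G} (hz : cs z = m)
    (hall : ∀ p : ℕ, p.Prime → p ∣ m → ∀ g : G, PE p g → g ∉ center G →
      ∃ k : G, k * g * k⁻¹ ∈ cz z ∧ cz (k * g * k⁻¹) = cz z) : False := by
  have hN : (cz z).Normal := by
    refine normal_of_forall_vp fun p hp => ?_
    haveI := Fact.mk hp
    by_cases hpm : p ∣ m
    swap
    · exact Nat.le_zero.mp ((vp_mono le_normalizer).trans_eq
        ((Sz.vp_cs hz).trans (Nat.factorization_eq_zero_of_not_dvd hpm)))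
    let P : Sylow p G := default
    have hPz : ¬ (P : Subgroup G) ≤ center G := fun hle => by
      have h1 := (vp_mono (p := p) hle).trans_eq (vp_sylow P)
      have := h.vp_center_gt hp hpm
      omega
    obtain ⟨u, hu, huz, -, hcu⟩ := exists_fixed_mod_center P.isPGroup' le_rfl
      (fun g hg x hx => mul_mem (mul_mem hg hx) ((P : Subgroup G).inv_mem hg)) hPz
    have hPN : (P : Subgroup G) ≤ normalizer ((cz u : Subgroup G) : Set G) := fun g hg => by
      refine mem_normalizer_iff.mpr fun v => ?_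
      have h1 : cz (g * u * g⁻¹) = cz u := by
        ext w
        have hc := hcu g hg
        rw [show g * u * g⁻¹ = u * (u⁻¹ * (g * u * g⁻¹)) by group, mem_cz, mem_cz,
          ← mul_assoc w, mul_assoc u (u⁻¹ * (g * u * g⁻¹)) w, ← mem_center_iff.mp hc w, ← mul_assoc u w]
        exact mul_left_inj _
      have h2 : g * v * g⁻¹ ∈ cz (g * u * g⁻¹) ↔ v ∈ cz u := by
        rw [cz_conj g u, show g⁻¹ * (g * v * g⁻¹) * g = v by group]
      rw [h1] at h2
      exact h2.symm
    obtain ⟨k, -, hk⟩ := hall p hp hpm u (pe_of_mem P.isPGroup' hu) huz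
    refine Nat.le_zero.mp ?_
    unfold vp
    rw [← hk, index_normalizer_conj]
    exact (vp_mono hPN).trans_eq (vp_sylow P)
  obtain ⟨p, hp, hpm⟩ := Nat.exists_prime_and_dvd (n := m) (by have := h.hm; omega)
  haveI := Fact.mk hp
  have h1 : vp p (cz z) ≤ vp p (⊤ : Subgroup G) := vp_le_of_forall hp fun g _ hg => by
    by_cases hgz : g ∈ center G
    · exact center_le_centralizer _ hgz
    obtain ⟨k, hk, -⟩ := hall p hp hpm g hg hgz
    have := hN.conj_mem _ hk k⁻¹
    simpa [mul_assoc] using this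
  rw [vp_top', Sz.vp_cs hz] at h1
  have := hp.factorization_pos_of_dvd (by have := h.hm; omega) hpm
  omega

theorem TH.comm_cz (h : TH G m n) {s : ℕ} (hs : s.Prime) {x : G} (hx : PE s x) (cx : cs x = m)
    (hsn : ¬ s ∣ n) {g w : G} (hg : g ∈ cz x) (hw : w ∈ cz x) (hpg : PE s g) (hwo : (orderOf w).Coprime s) :
    Commute g w := by
  haveI := Fact.mk hs
  have hsy : ∀ v : cz x, (orderOf v).Coprime s → ¬ s ∣ cs v := fun v hv => by
    rw [← Subgroup.orderOf_coe] at hv
    rw [cs_sub]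
    rcases h.relIndex_cases cx v.2 (hx.co hv) with h1 | h1 <;> rw [h1]
    · exact hs.not_dvd_one
    · exact hsn
  let P : Sylow s (cz x) := default
  obtain ⟨hn, hc⟩ := sylow_centralized hsy P
  haveI := Sylow.unique_of_normal P hn
  have hgP : (⟨g, hg⟩ : cz x) ∈ (P : Subgroup (cz x)) := by
    obtain ⟨k, hk⟩ := hpg
    have hY : IsPGroup s (zpowers (⟨g, hg⟩ : cz x)) := isPGroup_zpowers ⟨k, Subtype.ext (by simpa using hk)⟩
    obtain ⟨Q, hQ⟩ := hY.exists_le_sylow
    rw [Subsingleton.elim P Q]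
    exact hQ (mem_zpowers _)
  exact congrArg Subtype.val (hc ⟨w, hw⟩ (by rw [← Subgroup.orderOf_coe]; exact hwo) _ hgP)

theorem TH.exists_ab_of_not_dvd (h : TH G m n) {s : ℕ} (hs : s.Prime) {x : G} (hx : PE s x)
    (cx : cs x = m) (hsn : ¬ s ∣ n) : ∃ y, Ab G m n y := by
  haveI := Fact.mk hs
  have hxz := h.nc_of_cs cx
  have hm0 : 0 < m := by have := h.hm; omega
  -- centralisers of non-central elements containing `C(x)`
  have eq_H : ∀ v, v ∉ center G → cz x ≤ cz v → cz v = cz x := fun v hv hle => by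
    rcases h.of_dvd_m (g := v) (cx ▸ index_dvd_of_le hle) with h1 | h1
    · exact absurd (cs_one_iff.mp h1) hv
    · exact (eq_of_le_of_index hle (by change cs x ≤ cs v; rw [cx, h1])).symm
  by_cases hA : ∀ w ∈ cz x, (orderOf w).Coprime s → cz x ≤ cz w
  · refine ⟨x, h, cx, ?_⟩
    obtain ⟨q, hq, hqn⟩ := Nat.exists_prime_and_dvd (n := n) (by have := h.hn; omega)
    have hqs : q ≠ s := fun e => hsn (e ▸ hqn)
    have hq0 : vp q (cz x) = 0 := by
      rw [Sz.vp_cs cx]; exact Nat.factorization_eq_zero_of_not_dvd (h.not_dvd_m hq hqn)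
    obtain ⟨b, hb, hpb, hbz⟩ := exists_pel_outside hq (L := center G) (K := cz x) (by
      obtain ⟨g, hg⟩ := h.exmn
      have h2 := vp_mono (p := q) (center_le_centralizer ({g} : Set G))
      rw [show vp q (centralizer ({g} : Set G)) = (m * n).factorization q from Sz.vp_cs hg, h.fq_mn hq hqn] at h2
      have := hq.factorization_pos_of_dvd (by have := h.hn; omega) hqn
      omega)
    have hcb := eq_H b hbz (hA b hb (hpb.orderOf_coprime hq hs hqs))
    have hsel : ∀ g ∈ cz x, PE s g → cz x ≤ cz g := fun g hg hpg => by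
      rcases h.relIndex_cases (a := b) (by change (cz b).index = m; rw [hcb]; exact cx) (hcb.symm ▸ hg)
        (hpb.coprime hq hs hqs hpg) with h1 | h1
      · exact hcb ▸ relIndex_eq_one.mp h1
      · exfalso
        have hv : vp q (cz x ⊓ cz g) ≤ vp q (cz x) := vp_le_of_forall hq fun u hu hpu =>
          ⟨hu, mem_cz.mpr (mem_cz.mp (hA u hu (hpu.orderOf_coprime hq hs hqs) hg)).symm⟩
        refine not_dvd_relIndex hq inf_le_left hv ?_
        rw [inf_relIndex_left, ← hcb, h1]
        exact hqn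
    intro v hv w hw
    refine mem_cz.mp (le_cz_of_primes (K := cz x) (z := w) (fun r hr u hu hpu => ?_) hv)
    rcases eq_or_ne r s with rfl | hrs
    · exact (mem_cz.mp (hsel u hu hpu hw) : Commute w u).symm
    · exact (mem_cz.mp (hA u hu (hpu.orderOf_coprime hr hs hrs) hw) : Commute w u).symm
  exfalso
  push Not at hA
  obtain ⟨w₀, hw₀, hw₀o, hw₀H⟩ := hA
  let P : Sylow s (cz x) := default
  have hco : ∀ g v : cz x, PE s g → (orderOf v).Coprime s → Commute g v := fun g v ⟨k, hk⟩ hv =>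
    Subtype.ext (h.comm_cz hs hx cx hsn g.2 v.2 ⟨k, by simpa using congrArg Subtype.val hk⟩
      (by rw [Subgroup.orderOf_coe]; exact hv))
  obtain ⟨Q, N, hN, hc⟩ := Cfsg.FusionSystem.hasNormalPComplement_of_centralizes P fun Q hQ g _ hg =>
    mem_centralizer_iff.mpr fun v hv => (hco v g (pe_of_mem P.isPGroup' (hQ hv)) hg).eq
  have hNco : (Nat.card N).Coprime s := by
    rw [← hc.index_eq_card]
    exact ((Nat.Prime.coprime_iff_not_dvd hs).mpr Q.not_dvd_index).symm
  have hmemN : ∀ v : cz x, (orderOf v).Coprime s → v ∈ N := fun v hv => by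
    refine mem_of_coprime_index ?_
    rw [hc.symm.index_eq_card, Q.card_eq_multiplicity]
    exact hv.pow_right _
  have hNv : ∀ v : N, (orderOf ((v : cz x) : G)).Coprime s := fun v => by
    rw [Subgroup.orderOf_coe]; exact hNco.coprime_dvd_left (N.orderOf_dvd_natCard v.2)
  have hidx : ∀ v : N, (centralizer ({v} : Set N)).index = (cz ((v : cz x) : G)).relIndex (cz x) := by
    intro v
    have hv : (orderOf (v : cz x)).Coprime s := by rw [← Subgroup.orderOf_coe]; exact hNv v
    show cs v = _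
    rw [cs_sub, relIndex_eq_of_sup]
    · exact cs_sub (v : cz x)
    · rw [eq_top_iff, ← hc.sup_eq_top]
      exact sup_le le_sup_right (le_trans (fun z hz => mem_cz.mpr (hco z v (pe_of_mem Q.isPGroup' hz) hv).eq) le_sup_left)
  obtain ⟨q, hqf, k, hnk, hQN⟩ := Cfsg.Agent.S4134.result (G := N) n h.hn (fun v => by
    rw [hidx v]; exact h.relIndex_cases cx v.1.2 (hx.co (hNv v)))
    ⟨⟨⟨w₀, hw₀⟩, hmemN _ (by rw [← Subgroup.orderOf_coe]; exact hw₀o)⟩, by
      rw [hidx]
      rcases h.relIndex_cases cx hw₀ (hx.co hw₀o) with h1 | h1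
      · exact absurd (relIndex_eq_one.mp h1) hw₀H
      · exact h1⟩
  have hq : q.Prime := hqf.out
  have hk0 : k ≠ 0 := fun h0 => by
    have := h.hn; rw [hnk, h0, pow_zero] at this; omega
  have hqn : q ∣ n := hnk ▸ dvd_pow_self q hk0
  have hqs : q ≠ s := fun e => hsn (e ▸ hqn)
  have hqm := h.not_dvd_m hq hqn
  have hq0 : vp q (cz x) = 0 := by rw [Sz.vp_cs cx]; exact Nat.factorization_eq_zero_of_not_dvd hqm
  -- the elements for other primes
  have hother : ∀ r : ℕ, r.Prime → r ≠ q → r ≠ s → ∀ z ∈ cz x, PE r z → z ∈ Zh x := by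
    intro r hr hrq hrs z hz hpz
    have hzo := hpz.orderOf_coprime hr hs hrs
    have hzN : (⟨z, hz⟩ : cz x) ∈ N := hmemN _ (by rw [← Subgroup.orderOf_coe]; exact hzo)
    obtain ⟨-, ⟨N', hN'n, hN'c, hN'ab, hN'Q⟩, -⟩ := hQN (default : Sylow q N)
    have hz' : (⟨⟨z, hz⟩, hzN⟩ : N) ∈ N' := by
      refine mem_of_coprime_index ?_
      rw [hN'c.symm.index_eq_card, Sylow.card_eq_multiplicity]
      have : orderOf (⟨⟨z, hz⟩, hzN⟩ : N) = orderOf z := by rw [← Subgroup.orderOf_coe, ← Subgroup.orderOf_coe]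
      rw [this]
      exact (hpz.orderOf_coprime hr hq hrq).pow_right _
    have hcen : ∀ v : N, Commute v (⟨⟨z, hz⟩, hzN⟩ : N) := fun v => by
      have hv : v ∈ N' ⊔ ((default : Sylow q N) : Subgroup N) := hN'c.sup_eq_top ▸ mem_top v
      refine (show N' ⊔ ((default : Sylow q N) : Subgroup N) ≤ cz (⟨⟨z, hz⟩, hzN⟩ : N) from
        sup_le (fun a ha => mem_cz.mpr ?_) (fun a ha => mem_cz.mpr (hN'Q _ hz' a ha).symm)) hv |> fun h' => mem_cz.mp h'
      haveI := hN'ab
      exact congrArg Subtype.val (mul_comm' (⟨a, ha⟩ : N') ⟨_, hz'⟩)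
    refine mem_zh.mpr ⟨hz, fun v hv => mem_cz.mp (le_cz_of_primes (K := cz x) (z := z) (fun r' hr' u hu hpu => ?_) hv)⟩
    rcases eq_or_ne r' s with rfl | hr's
    · exact h.comm_cz hs hx cx hsn hu hz hpu hzo
    · have huN : (⟨u, hu⟩ : cz x) ∈ N := hmemN _ (by rw [← Subgroup.orderOf_coe]; exact hpu.orderOf_coprime hr' hs hr's)
      exact congrArg (fun a : N => (((a : cz x)) : G)) (hcen ⟨⟨u, hu⟩, huN⟩).eq
  -- `s`-elements are central in `C(x)` once some `q`-element is
  have hs_of_z : ∀ z : G, PE q z → cz z = cz x → ∀ g ∈ cz x, PE s g → cz x ≤ cz g := by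
    intro z hpz hcz g hg hpg
    rcases h.relIndex_cases (a := z) (by change (cz z).index = m; rw [hcz]; exact cx) (hcz.symm ▸ hg)
      (hpz.coprime hq hs hqs hpg) with h1 | h1
    · exact hcz ▸ relIndex_eq_one.mp h1
    · exfalso
      have hv : vp q (cz x ⊓ cz g) ≤ vp q (cz x) := vp_le_of_forall hq fun u hu hpu =>
        ⟨hu, mem_cz.mpr (h.comm_cz hs hx cx hsn hg hu hpg (hpu.orderOf_coprime hq hs hqs)).eq.symm⟩
      refine not_dvd_relIndex hq inf_le_left hv ?_
      rw [inf_relIndex_left, ← hcz, h1]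
      exact hqn
  -- `q`-elements outside the centre of `C(x)` have size `mn`
  have hbig : ∀ w ∈ cz x, PE q w → w ∉ Zh x → cs w = m * n := by
    intro w hw hpw hwz
    have hwc : w ∉ center G := fun e => hwz (center_le_zh x e)
    rcases h.of_nc hwc with h1 | h1
    swap
    · exact h1
    exfalso
    haveI := Fact.mk hq
    obtain ⟨Q₁, hQ₁⟩ := CfsgLib.exists_sylow_le_of_not_dvd_index (cz x) (show ¬ q ∣ cs x by rw [cx]; exact hqm)
    obtain ⟨Q₂, hQ₂⟩ := CfsgLib.exists_sylow_le_of_not_dvd_index (cz w) (show ¬ q ∣ cs w by rw [h1]; exact hqm)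
    obtain ⟨k, hk⟩ := MulAction.exists_smul_eq G Q₂ Q₁
    have hwQ : w ∈ (Q₂ : Subgroup G) :=
      CfsgLib.mem_sylow_of_mem_centralizer Q₂ hpw fun a ha => (mem_cz.mp (hQ₂ ha) : Commute a w).symm
    have hmem : ∀ a, a ∈ (Q₁ : Subgroup G) ↔ k⁻¹ * a * k ∈ (Q₂ : Subgroup G) := fun a => by
      rw [← hk, Sylow.coe_subgroup_smul, mem_pointwise_smul_iff_inv_smul_mem]
      simp [MulAut.smul_def]
    set z := k * w * k⁻¹ with hzdef
    have hzQ : z ∈ (Q₁ : Subgroup G) := (hmem z).mpr (by rw [hzdef, show k⁻¹ * (k * w * k⁻¹) * k = w by group]; exact hwQ)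
    have hzH : z ∈ cz x := hQ₁ hzQ
    have hzcomm : ∀ a ∈ (Q₁ : Subgroup G), Commute a z := fun a ha => by
      have h2 : k⁻¹ * a * k ∈ cz w := hQ₂ ((hmem a).mp ha)
      exact mem_cz.mp ((cz_conj k w).mpr h2)
    have hcz : cz z = cz x := by
      refine eq_H z (conj_not_center hwc k) (le_of_vp fun r hr => ?_)
      rcases eq_or_ne r q with rfl | hrq
      · exact (vp_mono (le_inf (fun a ha => mem_cz.mpr (hzcomm a ha).eq) hQ₁)).trans ((vp_sylow Q₁).le.trans (Nat.zero_le _))
      refine vp_le_of_forall hr fun u hu hpu => ⟨mem_cz.mpr ?_, hu⟩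
      rcases eq_or_ne r s with rfl | hrs
      · exact (h.comm_cz hs hx cx hsn hu hzH hpu ((hpw.conj k).orderOf_coprime hq hs hqs)).eq
      · exact ((mem_zh.mp (hother r hr hrq hrs u hu hpu)).2 z hzH).eq.symm
    have hkx : k * x * k⁻¹ ∈ cz x := by
      rw [← hcz]
      exact mem_cz.mpr (commute_conj_iff.mpr (show Commute x w from (mem_cz.mp hw : Commute w x).symm)).eq
    have e1 : cz (k * x * k⁻¹) = cz (k * w * k⁻¹) := by
      rw [← hzdef, hcz]
      exact eq_H _ (conj_not_center hxz k) (hs_of_z z (hpw.conj k) hcz _ hkx (hx.conj k))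
    have e2 : cz x = cz w := by
      ext v
      have hv : v = k⁻¹ * (k * v * k⁻¹) * k := by group
      rw [hv, ← cz_conj k x, ← cz_conj k w, e1]
    exact hwz (mem_zh.mpr ⟨hw, fun v hv => by rw [e2] at hv; exact mem_cz.mp hv⟩)
  obtain ⟨w, hw, hpw, hwz⟩ : ∃ w ∈ cz x, PE q w ∧ w ∉ Zh x := by
    by_contra hcon
    push Not at hcon
    have hw₀z : w₀ ∈ Zh x := by
      by_contra hnz
      obtain ⟨r, hr, u, hu, hpu, huz⟩ := exists_prim hnz
      have huH : u ∈ cz x := (zpowers_le.mpr hw₀) hu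
      rcases eq_or_ne r q with rfl | hrq
      · exact huz (hcon u huH hpu)
      rcases eq_or_ne r s with rfl | hrs
      · exact huz ((hpu.eq_one (hw₀o.coprime_dvd_left (orderOf_dvd_of_mem_zpowers hu))).symm ▸ one_mem _)
      exact huz (hother r hr hrq hrs u huH hpu)
    exact hw₀H fun v hv => mem_cz.mpr ((mem_zh.mp hw₀z).2 v hv).eq
  have hcw := hbig w hw hpw hwz
  have hwle : ∀ v ∈ cz x, PE q v → cs v = m * n → cz v ≤ cz x := fun v hv hpv hcv =>
    h.le_of_mn hcv (mem_cz.mpr (mem_cz.mp hv).symm) (hpv.coprime hq hs hqs hx)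
  -- all elements of other primes are central in `C(x)`
  have hcentral : ∀ r : ℕ, r.Prime → r ≠ q → ∀ g ∈ cz x, PE r g → cz x ≤ cz g := by
    intro r hr hrq g hg hpg
    rcases eq_or_ne r s with rfl | hrs
    swap
    · exact fun v hv => mem_cz.mpr ((mem_zh.mp (hother r hr hrq hrs g hg hpg)).2 v hv).eq
    have hwc : ∀ u ∈ cz x, PE r u → Commute u w := fun u hu hpu =>
      h.comm_cz hs hx cx hsn hu hw hpu (hpw.orderOf_coprime hq hs hqs)
    have hle : cz w ≤ cz g := h.le_of_mn hcw (mem_cz.mpr (hwc g hg hpg).eq) (hpw.coprime hq hs hqs hpg)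
    refine le_cz_of_primes fun r' hr' u hu hpu => ?_
    rcases eq_or_ne r' q with rfl | hr'q
    · exact (h.comm_cz hs hx cx hsn hg hu hpg (hpu.orderOf_coprime hr' hs hqs)).symm
    rcases eq_or_ne r' r with rfl | hr's
    · exact mem_cz.mp (hle (mem_cz.mpr (hwc u hu hpu).eq))
    · exact ((mem_zh.mp (hother r' hr' hr'q hr's u hu hpu)).2 g hg).symm
  have hvq : n.factorization q < vp q (center G) := by
    by_contra hle
    push Not at hle
    obtain ⟨k', -, hk'⟩ := conj_into' hq (center_le_centralizer ({w} : Set G))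
      (hle.trans_eq ((Sz.vp_cs hcw).trans (h.fq_mn hq hqn)).symm) (mem_cz.mpr rfl) hpw
    exact hwz (center_le_zh x (conj_mem_center hk'))
  refine h.false_of_pel_conj cx fun p hp hpm g hpg hgz => ?_
  obtain ⟨w', hw', hpw', hw'z⟩ := exists_pel_outside hq (L := center G) (K := cz g) (by
    refine lt_of_le_of_lt ?_ hvq
    rcases h.of_nc hgz with h1 | h1
    · rw [Sz.vp_cs h1, Nat.factorization_eq_zero_of_not_dvd hqm]; exact Nat.zero_le _
    · rw [Sz.vp_cs h1, h.fq_mn hq hqn])
  haveI := Fact.mk hq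
  obtain ⟨e, he⟩ := hpw'
  obtain ⟨k', hk'⟩ := Disc.exists_sylow_conj (show ¬ q ∣ cs x by rw [cx]; exact hqm) he
  have hpw'' : PE q (k' * w' * k'⁻¹) := PE.conj ⟨e, he⟩ k'
  have hgk : k' * g * k'⁻¹ ∈ cz x := by
    have hgc : k' * g * k'⁻¹ ∈ cz (k' * w' * k'⁻¹) :=
      mem_cz.mpr (commute_conj_iff.mpr (show Commute g w' from (mem_cz.mp hw' : Commute w' g).symm)).eq
    by_cases hz' : k' * w' * k'⁻¹ ∈ Zh x
    · rwa [eq_H _ (conj_not_center hw'z k') fun v hv => mem_cz.mpr ((mem_zh.mp hz').2 v hv).eq] at hgc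
    · exact hwle _ hk' hpw'' (hbig _ hk' hpw'' hz') hgc
  exact ⟨k', hgk, eq_H _ (conj_not_center hgz k')
    (hcentral p hp (fun e' => hqm (e' ▸ hpm)) _ hgk (hpg.conj k'))⟩

end CfsgLib.ConjTypeCop
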